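import Cfsg.Agent.CharInduce.Ops
import Cfsg.Agent.CharInduce.Induce
import Cfsg.Agent.CharInduce.Det
import Mathlib.GroupTheory.FiniteAbelian.Duality

/-!
# Characters induced from abelian subgroups of odd order

Inner products of `Ind ψ` with functions which are constant, or `c (μ + μ⁻¹)`, on the non-trivial
elements of the subgroup; half systems of characters of an abelian group of odd order.
-/

set_option autoImplicit false
set_option linter.unusedSectionVars false

namespace Cfsg.Agent.H15.Ward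

open Subgroup Cfsg.Agent Cfsg.Agent.CharBasic Cfsg.Agent.CharInduce
open scoped ComplexConjugate

universe u

variable {G : Type u} [Group G] [Fintype G]

/-- The function induced from a homomorphism of a subgroup. -/
noncomputable def indH (A : Subgroup G) (ψ : ↥A →* ℂˣ) : G → ℂ :=
  Cfsg.indFun A fun z => (ψ z : ℂ)

theorem isClass_indH (A : Subgroup G) (ψ : ↥A →* ℂˣ) : Cfsg.IsClassFunction G (indH A ψ) :=
  isClassFunction_indFun _ _

theorem isGen_indH (A : Subgroup G) (ψ : ↥A →* ℂˣ) : Cfsg.IsGeneralizedCharacter G (indH A ψ) :=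
  IsGen.ind A (IsGen.of_char (isCharacter_hom ψ))

theorem indH_one (A : Subgroup G) (ψ : ↥A →* ℂˣ) : indH A ψ 1 = (A.index : ℂ) := by
  rw [indH, indFun_one, map_one, Units.val_one, mul_one]

/-- An induced function vanishes where the order has nothing to do with the subgroup. -/
theorem indH_eq_zero_of_coprime (A : Subgroup G) (ψ : ↥A →* ℂˣ) {x : G} (hx : x ≠ 1)
    (h : Nat.Coprime (orderOf x) (Nat.card A)) : indH A ψ x = 0 := by
  refine indFun_eq_zero_of_forall_not_mem A _ fun g hg => hx (orderOf_eq_one_iff.1 ?_)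
  have h1 := Subgroup.orderOf_dvd_natCard A hg
  have h2 : orderOf (g⁻¹ * x * g) = orderOf x := by
    simpa using orderOf_injective (MulAut.conj g⁻¹).toMonoidHom (MulAut.conj g⁻¹).injective x
  rw [h2] at h1
  exact Nat.dvd_one.1 (h ▸ Nat.dvd_gcd dvd_rfl h1)

theorem indH_eq_zero_of_even (A : Subgroup G) (hA : Odd (Nat.card A)) (ψ : ↥A →* ℂˣ) {x : G}
    (hx : ¬ Odd (orderOf x)) : indH A ψ x = 0 := by
  refine indFun_eq_zero_of_forall_not_mem A _ fun g hg => hx ?_
  have h2 : orderOf (g⁻¹ * x * g) = orderOf x := by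
    simpa using orderOf_injective (MulAut.conj g⁻¹).toMonoidHom (MulAut.conj g⁻¹).injective x
  exact h2 ▸ Odd.of_dvd_nat hA (Subgroup.orderOf_dvd_natCard A hg)

open scoped Classical in
/-- The value at an element inverted by its fusion in the subgroup. -/
theorem indH_eq_of_inverted (A : Subgroup G) (ψ : ↥A →* ℂˣ) {x : G} (hx : x ∈ A) (h2 : x * x ≠ 1)
    (hfus : ∀ g : G, g⁻¹ * x * g ∈ A → g⁻¹ * x * g = x ∨ g⁻¹ * x * g = x⁻¹)
    {w : G} (hw : w⁻¹ * x * w = x⁻¹) :
    indH A ψ x = (Nat.card (centralizer ({x} : Set G)) : ℂ) / (Nat.card A : ℂ) *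
      ((ψ ⟨x, hx⟩ : ℂ) + (ψ ⟨x, hx⟩ : ℂ)⁻¹) := by
  have hne : x⁻¹ ≠ x := fun e => h2 (by rw [← mul_inv_cancel x]; exact congrArg (x * ·) e.symm)
  have hsum : ∀ g : G, Cfsg.extendByZero A (fun z => (ψ z : ℂ)) (g⁻¹ * x * g) =
      (if g⁻¹ * x * g = x then (ψ ⟨x, hx⟩ : ℂ) else 0) +
        (if g⁻¹ * x * g = x⁻¹ then (ψ ⟨x, hx⟩ : ℂ)⁻¹ else 0) := by
    intro g
    by_cases hg : g⁻¹ * x * g ∈ A
    · rcases hfus g hg with e | e
      · rw [if_pos e, if_neg (fun e' => hne (e'.symm.trans e)), add_zero, e,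
          extendByZero_of_mem _ hx]
      · rw [if_neg (fun e' => hne (e.symm.trans e')), if_pos e, zero_add, e,
          extendByZero_of_mem _ (inv_mem hx), ← Units.val_inv_eq_inv_val, ← map_inv]
        rfl
    · rw [extendByZero_of_not_mem _ hg, if_neg (fun e' => hg (by rw [e']; exact hx)),
        if_neg (fun e' => hg (by rw [e']; exact inv_mem hx)), add_zero]
  have hc1 : (Finset.univ.filter fun g : G => g⁻¹ * x * g = x).card =
      Nat.card (centralizer ({x} : Set G)) := by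
    rw [← Fintype.card_subtype, ← Nat.card_eq_fintype_card]
    refine Nat.card_congr (Equiv.subtypeEquivRight fun g => ?_)
    rw [mem_centralizer_singleton_iff, mul_assoc, inv_mul_eq_iff_eq_mul]
    exact eq_comm
  have hc2 : (Finset.univ.filter fun g : G => g⁻¹ * x * g = x⁻¹).card =
      Nat.card (centralizer ({x} : Set G)) := by
    rw [← hc1]
    refine (Finset.card_equiv (Equiv.mulRight w) fun g => ?_).symm
    simp only [Finset.mem_filter, Finset.mem_univ, true_and, Equiv.coe_mulRight]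
    rw [show (g * w)⁻¹ * x * (g * w) = w⁻¹ * (g⁻¹ * x * g) * w by group, ← hw]
    simp only [mul_left_inj, mul_right_inj]
  rw [indH, indFun_apply, Finset.sum_congr rfl fun g _ => hsum g, Finset.sum_add_distrib,
    ← Finset.sum_filter, ← Finset.sum_filter, Finset.sum_const, Finset.sum_const, hc1, hc2,
    nsmul_eq_mul, nsmul_eq_mul]
  ring

/-- Frobenius reciprocity. -/
theorem inner_indH (A : Subgroup G) [Fintype A] (ψ : ↥A →* ℂˣ) {θ : G → ℂ}
    (hθ : Cfsg.IsClassFunction G θ) :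
    Cfsg.classInner (indH A ψ) θ = (Nat.card A : ℂ)⁻¹ * ∑ x : A, (ψ x : ℂ) * conj (θ (x : G)) := by
  rw [indH, classInner_indFun_left _ _ _ hθ, classInner_def]

theorem sum_hom_eq_ite {A : Type*} [Group A] [Fintype A] (ψ : A →* ℂˣ) [Decidable (ψ = 1)] :
    ∑ x : A, (ψ x : ℂ) = if ψ = 1 then (Nat.card A : ℂ) else 0 := by
  split_ifs with h
  · simp [h]
  · obtain ⟨a, ha⟩ : ∃ a, ψ a ≠ 1 := by
      by_contra hc
      exact h (MonoidHom.ext fun a => not_not.1 fun ha => hc ⟨a, ha⟩)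
    have h1 : (ψ a : ℂ) * ∑ x : A, (ψ x : ℂ) = ∑ x : A, (ψ x : ℂ) := by
      rw [Finset.mul_sum]
      exact Fintype.sum_equiv (Equiv.mulLeft a) _ _ fun x => by simp
    have h2 : ((ψ a : ℂ) - 1) * ∑ x : A, (ψ x : ℂ) = 0 := by rw [sub_mul, one_mul, h1, sub_self]
    exact (mul_eq_zero.1 h2).resolve_left (sub_ne_zero.2 fun e => ha (Units.ext e))

open scoped Classical in
/-- Against a function constant on the non-trivial elements. -/
theorem inner_indH_const (A : Subgroup G) (ψ : ↥A →* ℂˣ) {θ : G → ℂ}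
    (hθ : Cfsg.IsClassFunction G θ) {c : ℂ} (hc : ∀ x ∈ A, x ≠ 1 → θ x = c) :
    Cfsg.classInner (indH A ψ) θ =
      (Nat.card A : ℂ)⁻¹ * (conj (θ 1) - conj c) + if ψ = 1 then conj c else 0 := by
  have : Fintype A := Fintype.ofFinite A
  have hs : ∀ x : A, (ψ x : ℂ) * conj (θ (x : G)) =
      conj c * (ψ x : ℂ) + if x = 1 then conj (θ 1) - conj c else 0 := by
    intro x
    split_ifs with hx
    · subst hx; simp
    · rw [hc x x.2 fun e => hx (Subtype.ext e)]; ring
  rw [inner_indH A ψ hθ, Finset.sum_congr rfl fun x _ => hs x, Finset.sum_add_distrib,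
    ← Finset.mul_sum, sum_hom_eq_ite, Finset.sum_ite_eq' Finset.univ (1 : A), if_pos (Finset.mem_univ _)]
  have h0 := card_ne_zero_complex A
  split_ifs
  · field_simp; ring
  · simp

open scoped Classical in
/-- Against a function equal to `c (μ + μ⁻¹)` on the non-trivial elements. -/
theorem inner_indH_pm (A : Subgroup G) (ψ μ : ↥A →* ℂˣ) {θ : G → ℂ}
    (hθ : Cfsg.IsClassFunction G θ) {c : ℂ}
    (hc : ∀ x : A, x ≠ 1 → θ (x : G) = c * ((μ x : ℂ) + (μ x : ℂ)⁻¹)) :
    Cfsg.classInner (indH A ψ) θ = (Nat.card A : ℂ)⁻¹ * (conj (θ 1) - 2 * conj c) +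
      conj c * ((if ψ = μ then 1 else 0) + if ψ = μ⁻¹ then 1 else 0) := by
  have : Fintype A := Fintype.ofFinite A
  have hu : ∀ x : A, conj (μ x : ℂ) = (μ x : ℂ)⁻¹ := fun x =>
    ((Complex.inv_eq_conj (CharInduce.norm_hom μ x))).symm
  have hs : ∀ x : A, (ψ x : ℂ) * conj (θ (x : G)) =
      (conj c * ((ψ * μ⁻¹) x : ℂ) + conj c * ((ψ * μ) x : ℂ)) +
        if x = 1 then conj (θ 1) - 2 * conj c else 0 := by
    intro x
    split_ifs with hx
    · subst hx; simp; ring
    · rw [hc x hx, map_mul, map_add, map_inv₀, hu]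
      simp only [MonoidHom.mul_apply, MonoidHom.inv_apply, Units.val_mul, Units.val_inv_eq_inv_val,
        inv_inv, add_zero]
      ring
  rw [inner_indH A ψ hθ, Finset.sum_congr rfl fun x _ => hs x, Finset.sum_add_distrib,
    Finset.sum_add_distrib, ← Finset.mul_sum, ← Finset.mul_sum, sum_hom_eq_ite, sum_hom_eq_ite,
    Finset.sum_ite_eq' Finset.univ (1 : A), if_pos (Finset.mem_univ _)]
  have e1 : ψ * μ⁻¹ = 1 ↔ ψ = μ := mul_inv_eq_one (G := ↥A →* ℂˣ)
  have e2 : ψ * μ = 1 ↔ ψ = μ⁻¹ := mul_eq_one_iff_eq_inv (G := ↥A →* ℂˣ)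
  simp only [e1, e2]
  have h0 := card_ne_zero_complex A
  split_ifs <;> field_simp <;> ring

/-! ### Half systems of characters -/

variable {A : Type u} [Group A] [Finite A]

/-- Characters of a finite group form a finite type. -/
@[reducible] noncomputable def homFintype (A : Type u) [Group A] [Finite A] (hA : ∀ a b : A, a * b = b * a) :
    Fintype (A →* ℂˣ) :=
  letI : CommGroup A := { ‹Group A› with mul_comm := hA }
  have : Nonempty ((A →* ℂˣ) ≃* A) := CommGroup.monoidHom_mulEquiv_of_hasEnoughRootsOfUnity A ℂ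
  have : Finite (A →* ℂˣ) := Finite.of_equiv A this.some.symm.toEquiv
  Fintype.ofFinite _

theorem card_homs (hA : ∀ a b : A, a * b = b * a) : Nat.card (A →* ℂˣ) = Nat.card A :=
  letI : CommGroup A := { ‹Group A› with mul_comm := hA }
  CommGroup.card_monoidHom_of_hasEnoughRootsOfUnity A ℂ

theorem exists_hom_ne (hA : ∀ a b : A, a * b = b * a) {a : A} (ha : a ≠ 1) :
    ∃ ψ : A →* ℂˣ, ψ a ≠ 1 :=
  letI : CommGroup A := { ‹Group A› with mul_comm := hA }
  CommGroup.exists_apply_ne_one_of_hasEnoughRootsOfUnity A ℂ ha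

theorem sum_all_homs (hA : ∀ a b : A, a * b = b * a) [Fintype (A →* ℂˣ)] {x : A} (hx : x ≠ 1) :
    ∑ ψ : A →* ℂˣ, (ψ x : ℂ) = 0 := by
  obtain ⟨φ, hφ⟩ := exists_hom_ne hA hx
  have h1 : (φ x : ℂ) * ∑ ψ : A →* ℂˣ, (ψ x : ℂ) = ∑ ψ : A →* ℂˣ, (ψ x : ℂ) := by
    rw [Finset.mul_sum]
    exact Fintype.sum_equiv (Equiv.mulLeft φ) _ _ fun ψ => by simp
  have h2 : ((φ x : ℂ) - 1) * ∑ ψ : A →* ℂˣ, (ψ x : ℂ) = 0 := by rw [sub_mul, one_mul, h1, sub_self]
  exact (mul_eq_zero.1 h2).resolve_left (sub_ne_zero.2 fun e => hφ (Units.ext e))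

open scoped Classical in
/-- In odd order no non-trivial character is its own inverse; a half system exists. -/
theorem exists_half (hA : ∀ a b : A, a * b = b * a) (hodd : Odd (Nat.card A)) :
    ∃ H : Finset (A →* ℂˣ), (1 : A →* ℂˣ) ∉ H ∧
      (∀ ψ : A →* ℂˣ, ψ ≠ 1 → (ψ ∈ H ↔ ψ⁻¹ ∉ H)) ∧
      2 * H.card + 1 = Nat.card A ∧
      ∀ x : A, x ≠ 1 → ∑ ψ ∈ H, ((ψ x : ℂ) + (ψ x : ℂ)⁻¹) = -1 := by
  let := homFintype A hA
  have hne : ∀ ψ : A →* ℂˣ, ψ ≠ 1 → ψ⁻¹ ≠ ψ := fun ψ hψ e => hψ (by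
    have h2 : ψ ^ 2 = 1 := by
      refine (pow_two ψ).trans ?_
      nth_rw 1 [← e]
      exact inv_mul_cancel ψ
    have h3 : ψ ^ Nat.card A = 1 := CharInduce.hom_pow_card ψ
    obtain ⟨k, hk⟩ := hodd
    rw [hk] at h3
    calc ψ = (ψ ^ 2) ^ k * ψ := by
          rw [h2]
          exact (one_mul ψ).symm.trans (congrArg (· * ψ) (one_pow (M := A →* ℂˣ) k).symm)
      _ = ψ ^ (2 * k + 1) := by rw [← pow_mul ψ, ← pow_succ ψ]
      _ = 1 := h3)
  let e := Fintype.equivFin (A →* ℂˣ)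
  let H := Finset.univ.filter fun ψ : A →* ℂˣ => e ψ < e ψ⁻¹
  have hH : ∀ ψ, ψ ∈ H ↔ e ψ < e ψ⁻¹ := fun ψ => by simp [H]
  have hinv : ∀ ψ : A →* ℂˣ, ψ ≠ 1 → (ψ ∈ H ↔ ψ⁻¹ ∉ H) := fun ψ hψ => by
    rw [hH, hH, inv_inv ψ, not_lt]
    exact ⟨le_of_lt, fun h => lt_of_le_of_ne h fun h' => hne ψ hψ (e.injective h').symm⟩
  have hone : (1 : A →* ℂˣ)⁻¹ = 1 := inv_one (G := A →* ℂˣ)
  have h1 : (1 : A →* ℂˣ) ∉ H := by rw [hH, hone]; exact lt_irrefl _
  have hdisj : Disjoint H (H.map (Equiv.inv (A →* ℂˣ)).toEmbedding) := by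
    rw [Finset.disjoint_left]
    intro ψ hψ hψ'
    rw [Finset.mem_map_equiv] at hψ'
    exact (hinv ψ fun h => h1 (h ▸ hψ)).1 hψ hψ'
  have huniv : H ∪ H.map (Equiv.inv (A →* ℂˣ)).toEmbedding = Finset.univ.erase 1 := by
    ext ψ
    rw [Finset.mem_union, Finset.mem_map_equiv, Finset.mem_erase]
    constructor
    · rintro (h | h)
      · exact ⟨fun e => h1 (e ▸ h), Finset.mem_univ _⟩
      · refine ⟨fun e => h1 ?_, Finset.mem_univ _⟩
        subst e
        simpa [hone] using h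
    · rintro ⟨hψ, -⟩
      by_cases h : ψ ∈ H
      · exact Or.inl h
      · exact Or.inr (not_not.1 fun h' => h ((hinv ψ hψ).2 h'))
  refine ⟨H, h1, hinv, ?_, fun x hx => ?_⟩
  · have hc := congrArg Finset.card huniv
    rw [Finset.card_union_of_disjoint hdisj, Finset.card_map,
      Finset.card_erase_of_mem (Finset.mem_univ _), Finset.card_univ, ← Nat.card_eq_fintype_card,
      card_homs hA] at hc
    have := Nat.card_pos (α := A)
    omega
  · have hs := Finset.sum_erase_add Finset.univ (fun ψ : A →* ℂˣ => (ψ x : ℂ)) (Finset.mem_univ 1)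
    rw [sum_all_homs hA hx, ← huniv, Finset.sum_union hdisj, Finset.sum_map] at hs
    simp only [MonoidHom.one_apply, Units.val_one, Equiv.coe_toEmbedding, Equiv.inv_apply,
      MonoidHom.inv_apply, Units.val_inv_eq_inv_val] at hs
    rw [Finset.sum_add_distrib]
    linear_combination hs

end Cfsg.Agent.H15.Ward
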