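import Cfsg.Agent.H15.Ward.PslLocal

/-!
# The two orbits of non-trivial characters of the unipotent subgroup

The Borel subgroup permutes the characters of `U` freely modulo `U`; two characters `α`, `β` in different
orbits give inductions `E`, `E'` with `E + E' = -1` on `U#` and known inner products.
-/

set_option autoImplicit false
set_option linter.unusedSectionVars false

namespace Cfsg.Agent.H15.Ward

open Subgroup Cfsg.Agent Cfsg.Agent.Linear.Dickson Cfsg.Agent.CharBasic Cfsg.Agent.CharInduce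
open scoped ComplexConjugate

variable {F : Type*} [Field F] [Fintype F]

local notation "P2" => Matrix.ProjectiveSpecialLinearGroup (Fin 2) F

/-- The unipotent subgroup. -/
noncomputable abbrev uni (F : Type*) [Field F] : Subgroup (Matrix.ProjectiveSpecialLinearGroup (Fin 2) F) :=
  cen (stdUni : Matrix.ProjectiveSpecialLinearGroup (Fin 2) F)

theorem uni_comm : ∀ x y : uni F, x * y = y * x := fun x y =>
  Subtype.ext (cen_comm stdUni_ne_one x.2 y.2)

/-- A Borel element acting on the unipotent subgroup. -/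
noncomputable def conjU (b : borel F) : uni F →* uni F where
  toFun x := ⟨(b : P2)⁻¹ * x * b, by
    have h := conj_mem_cen_stdUni ((borel F).inv_mem b.2) x.2
    rwa [inv_inv] at h⟩
  map_one' := Subtype.ext (by simp)
  map_mul' x y := Subtype.ext (by simp [mul_assoc])

theorem coe_conjU (b : borel F) (x : uni F) : (conjU b x : P2) = (b : P2)⁻¹ * x * b := rfl

/-- The twisted character. -/
noncomputable def tw (b : borel F) (α : uni F →* ℂˣ) : uni F →* ℂˣ := α.comp (conjU b)

theorem tw_apply (b : borel F) (α : uni F →* ℂˣ) (x : uni F) : tw b α x = α (conjU b x) := rfl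

theorem conjU_mul (b c : borel F) (x : uni F) : conjU (b * c) x = conjU c (conjU b x) :=
  Subtype.ext (by simp [coe_conjU, mul_assoc])

theorem tw_one (α : uni F →* ℂˣ) : tw 1 α = α :=
  MonoidHom.ext fun x => by rw [tw_apply]; congr 1; exact Subtype.ext (by simp [coe_conjU])

theorem tw_mul (b c : borel F) (α : uni F →* ℂˣ) : tw (b * c) α = tw b (tw c α) :=
  MonoidHom.ext fun x => by rw [tw_apply, tw_apply, tw_apply, conjU_mul]

theorem tw_inv_cancel (b : borel F) (α : uni F →* ℂˣ) : tw b⁻¹ (tw b α) = α := by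
  rw [← tw_mul, inv_mul_cancel, tw_one]

theorem tw_ne_one {b : borel F} {α : uni F →* ℂˣ} (hα : α ≠ 1) : tw b α ≠ 1 := fun h => hα (by
  rw [← tw_inv_cancel b α, h]
  exact MonoidHom.ext fun x => rfl)

theorem tw_eq_of_mem {b : borel F} (hb : (b : P2) ∈ uni F) (α : uni F →* ℂˣ) : tw b α = α :=
  MonoidHom.ext fun x => by
    rw [tw_apply]
    congr 1
    refine Subtype.ext ?_
    rw [coe_conjU, mul_assoc, cen_comm stdUni_ne_one x.2 hb, ← mul_assoc, inv_mul_cancel, one_mul]

theorem mem_of_tw_eq {b : borel F} {α : uni F →* ℂˣ} (hα : α ≠ 1) (h : tw b α = α) :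
    (b : P2) ∈ uni F := by
  by_contra hb
  have hfix : ∀ x : uni F, conjU b x = x → x = 1 := fun x hx => by
    by_contra hx1
    refine hb (uni_centralizer x.2 (fun e => hx1 (Subtype.ext e)) ?_)
    have h1 : (b : P2)⁻¹ * x * b = x := congrArg Subtype.val hx
    show (b : P2) * x = x * b
    conv_lhs => rw [← h1]
    group
  have hinj : Function.Injective fun x : uni F => conjU b x * x⁻¹ := by
    intro x y hxy
    refine mul_inv_eq_one.1 (hfix _ ?_)
    have h1 : conjU b x = conjU b y * y⁻¹ * x := eq_mul_of_mul_inv_eq hxy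
    rw [map_mul, map_inv, h1, uni_comm (conjU b y * y⁻¹) x, mul_assoc, mul_assoc,
      uni_comm y⁻¹, ← mul_assoc (conjU b y), mul_inv_cancel, one_mul]
  refine hα (MonoidHom.ext fun z => ?_)
  obtain ⟨x, rfl⟩ := (Finite.injective_iff_surjective.1 hinj) z
  rw [MonoidHom.one_apply, map_mul, map_inv, ← tw_apply, h, mul_inv_cancel]

open scoped Classical in
/-- The number of Borel elements carrying `α` to `β`. -/
noncomputable def cnt (α β : uni F →* ℂˣ) : ℕ := Nat.card {b : borel F // tw b α = β}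

theorem cnt_self {α : uni F →* ℂˣ} (hα : α ≠ 1) : cnt α α = Fintype.card F := by
  rw [cnt, ← card_cen_stdUni (F := F)]
  exact Nat.card_congr
    { toFun := fun b => ⟨(b.1 : P2), mem_of_tw_eq hα b.2⟩
      invFun := fun x => ⟨⟨(x : P2), cen_stdUni_le_borel x.2⟩, tw_eq_of_mem x.2 α⟩
      left_inv := fun b => rfl
      right_inv := fun x => rfl }

theorem cnt_eq {α β : uni F →* ℂˣ} (hα : α ≠ 1) {b : borel F} (hb : tw b α = β) :
    cnt α β = Fintype.card F := by
  rw [← cnt_self hα, cnt, cnt]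
  refine Nat.card_congr (Equiv.subtypeEquiv (Equiv.mulLeft b⁻¹) fun c => ?_)
  rw [Equiv.coe_mulLeft, tw_mul]
  constructor
  · intro h; rw [h, ← hb, tw_inv_cancel]
  · intro h
    rw [← hb, show tw c α = tw b (tw b⁻¹ (tw c α)) by rw [← tw_mul, mul_inv_cancel, tw_one], h]

theorem cnt_cases {α : uni F →* ℂˣ} (hα : α ≠ 1) (β : uni F →* ℂˣ) :
    cnt α β = 0 ∨ cnt α β = Fintype.card F := by
  by_cases h : ∃ b : borel F, tw b α = β
  · exact Or.inr (cnt_eq hα h.choose_spec)
  · have : IsEmpty {b : borel F // tw b α = β} := ⟨fun b => h ⟨b.1, b.2⟩⟩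
    exact Or.inl Nat.card_of_isEmpty

theorem sum_cnt (α : uni F →* ℂˣ) [Fintype (uni F →* ℂˣ)] :
    ∑ β : uni F →* ℂˣ, cnt α β = Nat.card (borel F) := by
  rw [← Nat.card_congr (Equiv.sigmaFiberEquiv fun b : borel F => tw b α), Nat.card_sigma]
  rfl

theorem cnt_one {α : uni F →* ℂˣ} (hα : α ≠ 1) : cnt α 1 = 0 := by
  have : IsEmpty {b : borel F // tw b α = 1} := ⟨fun b => tw_ne_one hα b.2⟩
  exact Nat.card_of_isEmpty

theorem sum_cnt_erase [Fintype (uni F →* ℂˣ)] [DecidableEq (uni F →* ℂˣ)] {α : uni F →* ℂˣ}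
    (hα : α ≠ 1) :
    ∑ β ∈ (Finset.univ.erase 1 : Finset (uni F →* ℂˣ)), cnt α β = Nat.card (borel F) := by
  rw [← sum_cnt α, ← Finset.sum_erase_add Finset.univ _ (Finset.mem_univ (1 : uni F →* ℂˣ)),
    cnt_one hα, add_zero]

theorem card_erase_one [Fintype (uni F →* ℂˣ)] [DecidableEq (uni F →* ℂˣ)] :
    (Finset.univ.erase 1 : Finset (uni F →* ℂˣ)).card + 1 = Fintype.card F := by
  rw [Finset.card_erase_add_one (Finset.mem_univ _), Finset.card_univ, ← Nat.card_eq_fintype_card,
    card_homs uni_comm, card_cen_stdUni]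

/-- Two characters in different orbits. -/
theorem exists_two (hodd : Odd (Fintype.card F)) :
    ∃ α β : uni F →* ℂˣ, α ≠ 1 ∧ β ≠ 1 ∧ cnt α β = 0 := by
  classical
  let := homFintype (uni F) uni_comm
  have hc := card_erase_one (F := F)
  have hq : 3 ≤ Fintype.card F := by
    have := Fintype.one_lt_card (α := F); obtain ⟨k, hk⟩ := hodd; omega
  obtain ⟨α, hα⟩ : (Finset.univ.erase 1 : Finset (uni F →* ℂˣ)).Nonempty :=
    Finset.card_pos.1 (by omega)
  have hα1 := Finset.ne_of_mem_erase hα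
  by_contra hne
  have hall : ∀ β ∈ (Finset.univ.erase 1 : Finset (uni F →* ℂˣ)), cnt α β = Fintype.card F :=
    fun β hβ => (cnt_cases hα1 β).resolve_left fun h =>
      hne ⟨α, β, hα1, Finset.ne_of_mem_erase hβ, h⟩
  have hs := sum_cnt_erase hα1
  rw [Finset.sum_const_nat hall] at hs
  have h2 := two_mul_card_borel hodd
  rw [← hs, show (Finset.univ.erase 1 : Finset (uni F →* ℂˣ)).card = Fintype.card F - 1 by omega,
    mul_comm _ (Fintype.card F)] at h2
  have : 0 < Fintype.card F * (Fintype.card F - 1) := Nat.mul_pos (by omega) (by omega)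
  omega

theorem cnt_symm_zero {α β : uni F →* ℂˣ} (hα : α ≠ 1) (h : cnt α β = 0) : cnt β α = 0 := by
  by_contra hne
  have : Nonempty {b : borel F // tw b β = α} := (Nat.card_ne_zero.1 hne).1
  obtain ⟨b, hb⟩ := this
  have := cnt_eq hα (b := b⁻¹) (β := β) (by rw [← hb, tw_inv_cancel])
  rw [h] at this
  exact absurd this.symm Fintype.card_ne_zero

variable [Fintype (Matrix.ProjectiveSpecialLinearGroup (Fin 2) F)]

open scoped Classical in
theorem indH_uni (α : uni F →* ℂˣ) {x : uni F} (hx : x ≠ 1) :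
    indH (uni F) α (x : P2) = (Fintype.card F : ℂ)⁻¹ * ∑ b : borel F, (tw b α x : ℂ) := by
  have hx1 : (x : P2) ≠ 1 := fun e => hx (Subtype.ext e)
  have hzero : ∀ g : P2, g ∉ borel F →
      Cfsg.extendByZero (uni F) (fun z => (α z : ℂ)) (g⁻¹ * x * g) = 0 := fun g hg =>
    extendByZero_of_not_mem _ fun h => hg ((borel F).inv_mem_iff.1
      (uni_mem_borel (g := g⁻¹) x.2 hx1 (by rwa [inv_inv])))
  rw [indH, indFun_apply, card_cen_stdUni]
  congr 1
  refine (Finset.sum_of_injOn (fun b : borel F => (b : P2)) Subtype.val_injective.injOn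
    (fun b _ => Finset.mem_coe.2 (Finset.mem_univ _)) (fun g _ hg => hzero g fun h =>
      hg ⟨⟨g, h⟩, Finset.mem_coe.2 (Finset.mem_univ _), rfl⟩) fun b _ => ?_).symm
  rw [tw_apply]
  exact (extendByZero_coe (fun z => (α z : ℂ)) (conjU b x)).symm

open scoped Classical in
/-- `E + E' = -1` on `U#`. -/
theorem indH_uni_add (hodd : Odd (Fintype.card F)) {α β : uni F →* ℂˣ} (hα : α ≠ 1) (hβ : β ≠ 1)
    (h : cnt α β = 0) {x : P2} (hx : x ∈ uni F) (hx1 : x ≠ 1) :
    indH (uni F) α x + indH (uni F) β x = -1 := by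
  let := homFintype (uni F) uni_comm
  have hx' : (⟨x, hx⟩ : uni F) ≠ 1 := fun e => hx1 (congrArg Subtype.val e)
  have hfib : ∀ γ : uni F →* ℂˣ, ∑ b : borel F, (tw b γ ⟨x, hx⟩ : ℂ) =
      ∑ δ : uni F →* ℂˣ, (cnt γ δ : ℂ) * (δ ⟨x, hx⟩ : ℂ) := by
    intro γ
    rw [← Finset.sum_fiberwise Finset.univ (fun b : borel F => tw b γ)]
    refine Finset.sum_congr rfl fun δ _ => ?_
    rw [Finset.sum_congr rfl fun b hb => by rw [(Finset.mem_filter.1 hb).2], Finset.sum_const,
      nsmul_eq_mul, cnt, Nat.card_eq_fintype_card, Fintype.card_subtype]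
  have hle : ∀ δ : uni F →* ℂˣ, cnt α δ + cnt β δ ≤ Fintype.card F := by
    intro δ
    rcases cnt_cases hα δ with e | e
    · rcases cnt_cases hβ δ with e' | e' <;> omega
    · suffices cnt β δ = 0 by omega
      refine (cnt_cases hβ δ).resolve_right fun e' => ?_
      obtain ⟨⟨b, hb⟩⟩ := (Nat.card_ne_zero.1 (e ▸ Fintype.card_ne_zero : cnt α δ ≠ 0)).1
      obtain ⟨⟨c, hc⟩⟩ := (Nat.card_ne_zero.1 (e' ▸ Fintype.card_ne_zero : cnt β δ ≠ 0)).1
      have := cnt_eq hα (b := c⁻¹ * b) (β := β) (by rw [tw_mul, hb, ← hc, tw_inv_cancel])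
      rw [h] at this
      exact absurd this.symm Fintype.card_ne_zero
  have htot : ∑ δ ∈ (Finset.univ.erase 1 : Finset (uni F →* ℂˣ)), (cnt α δ + cnt β δ) =
      ∑ _δ ∈ (Finset.univ.erase 1 : Finset (uni F →* ℂˣ)), Fintype.card F := by
    rw [Finset.sum_add_distrib, sum_cnt_erase hα, sum_cnt_erase hβ, Finset.sum_const, smul_eq_mul,
      ← two_mul, two_mul_card_borel hodd, mul_comm (Finset.card _)]
    have := card_erase_one (F := F)
    congr 1
    omega
  have heq := (Finset.sum_eq_sum_iff_of_le fun δ _ => hle δ).1 htot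
  rw [indH_uni α (x := ⟨x, hx⟩) hx', indH_uni β (x := ⟨x, hx⟩) hx', ← mul_add, hfib, hfib,
    ← Finset.sum_add_distrib]
  have hq : (Fintype.card F : ℂ) ≠ 0 := Nat.cast_ne_zero.2 Fintype.card_ne_zero
  rw [← Finset.sum_erase_add Finset.univ _ (Finset.mem_univ (1 : uni F →* ℂˣ)), cnt_one hα,
    cnt_one hβ, Finset.sum_congr rfl fun δ hδ => show _ = (Fintype.card F : ℂ) * (δ ⟨x, hx⟩ : ℂ) by
      rw [← add_mul, ← Nat.cast_add, heq δ hδ],
    ← Finset.mul_sum]
  have hs := Finset.sum_erase_add Finset.univ (fun δ : uni F →* ℂˣ => (δ ⟨x, hx⟩ : ℂ))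
    (Finset.mem_univ 1)
  rw [sum_all_homs uni_comm hx', MonoidHom.one_apply, Units.val_one] at hs
  simp only [Nat.cast_zero, zero_mul, add_zero]
  field_simp
  linear_combination hs

open scoped Classical in
/-- The inner products of the inductions of non-trivial characters of `U`. -/
theorem inner_uni_uni (α β : uni F →* ℂˣ) :
    Cfsg.classInner (indH (uni F) α) (indH (uni F) β) =
      (Fintype.card F : ℂ)⁻¹ * (((uni F).index : ℂ) -
        (Fintype.card F : ℂ)⁻¹ * (Nat.card (borel F) : ℂ) + (cnt β α : ℂ)) := by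
  have hq : (Fintype.card F : ℂ) ≠ 0 := Nat.cast_ne_zero.2 Fintype.card_ne_zero
  have : Fintype (uni F) := Fintype.ofFinite _
  rw [inner_indH _ _ (isClass_indH _ _), card_cen_stdUni]
  congr 1
  have hterm : ∀ x : uni F, (α x : ℂ) * conj (indH (uni F) β (x : P2)) =
      (Fintype.card F : ℂ)⁻¹ * ∑ b : borel F, ((α * (tw b β)⁻¹) x : ℂ) +
        if x = 1 then ((uni F).index : ℂ) - (Fintype.card F : ℂ)⁻¹ * (Nat.card (borel F) : ℂ)
        else 0 := by
    intro x
    split_ifs with hx
    · subst hx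
      simp only [OneMemClass.coe_one, indH_one, map_natCast, map_one, Units.val_one, one_mul,
        Finset.sum_const, Finset.card_univ, nsmul_eq_mul, mul_one, Nat.card_eq_fintype_card]
      ring
    · rw [indH_uni β hx, map_mul, map_inv₀, map_natCast, map_sum, add_zero, mul_left_comm,
        Finset.mul_sum]
      congr 1
      refine Finset.sum_congr rfl fun b _ => ?_
      rw [MonoidHom.mul_apply, MonoidHom.inv_apply, Units.val_mul, Units.val_inv_eq_inv_val,
        Complex.inv_eq_conj (CharInduce.norm_hom (tw b β) x)]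
  rw [Finset.sum_congr rfl fun x _ => hterm x, Finset.sum_add_distrib,
    Finset.sum_ite_eq' Finset.univ (1 : uni F), if_pos (Finset.mem_univ _), ← Finset.mul_sum,
    Finset.sum_comm]
  have hsum : ∀ b : borel F, ∑ x : uni F, ((α * (tw b β)⁻¹) x : ℂ) =
      if tw b β = α then (Fintype.card F : ℂ) else 0 := by
    intro b
    rw [sum_hom_eq_ite, card_cen_stdUni]
    refine if_congr ?_ rfl rfl
    exact (mul_inv_eq_one (G := uni F →* ℂˣ)).trans eq_comm
  rw [Finset.sum_congr rfl fun b _ => hsum b, ← Finset.sum_filter, Finset.sum_const, nsmul_eq_mul,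
    show cnt β α = (Finset.univ.filter fun b : borel F => tw b β = α).card by
      rw [cnt, Nat.card_eq_fintype_card, Fintype.card_subtype]]
  field_simp
  ring

end Cfsg.Agent.H15.Ward
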