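import Cfsg.Agent.H15.Ward.PslLSide
import Mathlib.GroupTheory.Sylow

/-!
# Elements of order dividing `|M|` are conjugate into `M`

and the values of the three principal functions there.
-/

set_option autoImplicit false
set_option linter.unusedSectionVars false

namespace Cfsg.Agent.H15.Ward.Tori

open Subgroup Cfsg.Agent Cfsg.Agent.Linear.Dickson Cfsg.Agent.CharBasic Cfsg.Agent.CharInduce

variable {F : Type*} [Field F] [Fintype F] (T : Tori F)

local notation "P2" => Matrix.ProjectiveSpecialLinearGroup (Fin 2) F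

theorem card_psl_eq : Nat.card P2 = Fintype.card F * Nat.card T.M * (4 * Nat.card T.K) := by
  have h : ((Nat.card P2 : ℕ) : ℂ) =
      ((Fintype.card F * Nat.card T.M * (4 * Nat.card T.K) : ℕ) : ℂ) := by
    push_cast
    rw [T.four_n]
    linear_combination (1 / 2 : ℂ) * T.two_card_Q -
      (1 / 2 : ℂ) * (Fintype.card F : ℂ) * (sn F : ℂ) * ((Q (F := F) : ℂ) + 1) * T.two_M -
      (1 / 2 : ℂ) * (sn F : ℂ) * (sn F : ℂ) * ((Q (F := F) : ℂ) ^ 2 - 1) * T.q_eq -
      (1 / 2 : ℂ) * (sn F : ℂ) * (Q (F := F) : ℂ) * ((Q (F := F) : ℂ) ^ 2 - 1) * T.sn_sq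
  exact_mod_cast h

theorem exists_conj_M {u : P2} (hu1 : u ≠ 1) (ho : orderOf u ∣ Nat.card T.M) :
    ∃ g : P2, g * u * g⁻¹ ∈ T.M := by
  obtain ⟨r, hr, hru⟩ := Nat.exists_prime_and_dvd (fun h => hu1 (orderOf_eq_one_iff.1 h))
  have := Fact.mk hr
  have hrM : r ∣ Nat.card T.M := hru.trans ho
  have hr2 : r ≠ 2 := fun e => by
    have h := T.odd_M; rw [Nat.odd_iff] at h; subst e; omega
  have hrq : ¬ r ∣ Fintype.card F := fun h =>
    hr.not_dvd_one (T.coprime_M_q ▸ Nat.dvd_gcd hrM h)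
  have hrK : ¬ r ∣ 4 * Nat.card T.K := fun h => by
    rcases hr.dvd_mul.1 h with h | h
    · exact hr2 ((Nat.prime_dvd_prime_iff_eq hr Nat.prime_two).1 (hr.dvd_of_dvd_pow (n := 2) h))
    · exact hr.not_dvd_one (T.coprime_K_M ▸ Nat.dvd_gcd h hrM)
  obtain ⟨P⟩ := (inferInstance : Nonempty (Sylow r T.M))
  have hP : IsPGroup r ((P : Subgroup T.M).map T.M.subtype) := P.2.map _
  have hidx : ¬ r ∣ ((P : Subgroup T.M).map T.M.subtype).index := by
    intro h
    have h1 := ((P : Subgroup T.M).map T.M.subtype).card_mul_index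
    rw [Subgroup.card_map_of_injective T.M.subtype_injective, T.card_psl_eq] at h1
    have h2 := (P : Subgroup T.M).card_mul_index
    rw [← h2] at h1
    have h3 : ((P : Subgroup T.M).map T.M.subtype).index =
        (P : Subgroup T.M).index * (Fintype.card F * (4 * Nat.card T.K)) := by
      refine Nat.eq_of_mul_eq_mul_left (Nat.card_pos (α := (P : Subgroup T.M))) ?_
      rw [h1]; ring
    rw [h3] at h
    rcases hr.dvd_mul.1 h with h | h
    · exact P.not_dvd_index h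
    · rcases hr.dvd_mul.1 h with h | h
      · exact hrq h
      · exact hrK h
  let S : Sylow r P2 := hP.toSylow hidx
  set u' := u ^ (orderOf u / r) with hu'
  have hou : orderOf u' = r := orderOf_pow_orderOf_div (orderOf_pos u).ne' hru
  have hz : IsPGroup r (zpowers u') :=
    IsPGroup.of_card (n := 1) (by rw [Nat.card_zpowers, hou, pow_one])
  obtain ⟨R, hR⟩ := hz.exists_le_sylow
  obtain ⟨g, hg⟩ := MulAction.exists_smul_eq P2 R S
  refine ⟨g, ?_⟩
  have hm : g * u' * g⁻¹ ∈ ((g • R : Sylow r P2) : Subgroup P2) := ⟨u', hR (mem_zpowers u'), rfl⟩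
  rw [hg] at hm
  obtain ⟨y, -, hy⟩ := hm
  have hyM : g * u' * g⁻¹ ∈ T.M := hy ▸ y.2
  have hne : g * u' * g⁻¹ ≠ 1 := fun e => by
    rw [conj_eq_one_iff] at e
    rw [e, orderOf_one] at hou
    exact hr.ne_one hou.symm
  have hodd : Odd (orderOf (g * u' * g⁻¹)) :=
    Odd.of_dvd_nat T.odd_M (Subgroup.orderOf_dvd_natCard _ hyM)
  refine tor_centralizer T.not_isUni_a hyM (sq_ne_one_of_odd hne hodd) ?_
  show g * u * g⁻¹ * (g * u' * g⁻¹) = g * u' * g⁻¹ * (g * u * g⁻¹)
  rw [show g * u * g⁻¹ * (g * u' * g⁻¹) = g * (u * u') * g⁻¹ by group,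
    show g * u' * g⁻¹ * (g * u * g⁻¹) = g * (u' * u) * g⁻¹ by group,
    hu', (Commute.self_pow u _).eq]

variable [Fintype (Matrix.ProjectiveSpecialLinearGroup (Fin 2) F)]

/-- `Φ₀ = 2`, `Φ± = 1` at elements of order dividing `|M|`. -/
theorem side_prin_of_dvd {u : P2} (hu1 : u ≠ 1) (ho : orderOf u ∣ Nat.card T.M) (i : Fin 3) :
    T.side.θ (.inl i) u = if i = 0 then 2 else 1 := by
  obtain ⟨g, hg⟩ := T.exists_conj_M hu1 ho
  have hne : g * u * g⁻¹ ≠ 1 := fun e => hu1 (conj_eq_one_iff.1 e)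
  have hcl : T.side.θ (.inl i) (g * u * g⁻¹) = T.side.θ (.inl i) u :=
    IsGen.isClassFunction (T.van_fn (.inl i)).gen u g
  rw [← hcl]
  split_ifs with hi
  · subst hi; exact T.side_zero_M hg hne
  · exact T.side_a_M hi hg hne

end Cfsg.Agent.H15.Ward.Tori
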