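import Cfsg.Agent.H15.Ward.PslTori

/-!
# The functions `Φ₀`, `Φ±`, `Φ_ψ`, `Φ_λ` of `PSL₂(q)`

They are combinations of inductions from the odd subgroups `U`, `K`, `M`:
`Φ_λ = Ind_M λ - S`, `Φ₀ = Φ_1`, `Φ_ψ = 2S - Ind_K ψ`, `Φ± = E± + IK - IM`, with `S = E₊ + E₋` and
`IK`, `IM` the sums of the inductions over half systems of characters.  Everything is uniform in the
signed order `Q`.
-/

set_option autoImplicit false
set_option linter.unusedSectionVars false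

namespace Cfsg.Agent.H15.Ward.Tori

open Subgroup Cfsg.Agent Cfsg.Agent.Linear.Dickson Cfsg.Agent.CharBasic Cfsg.Agent.CharInduce
open scoped ComplexConjugate

variable {F : Type*} [Field F] [Fintype F] (T : Tori F)

local notation "P2" => Matrix.ProjectiveSpecialLinearGroup (Fin 2) F

/-- The sign `Q / q`. -/
def sn (F : Type*) [Field F] [Fintype F] : ℤ := if Fintype.card F % 8 = 3 then 1 else -1

/-- `(Q - 1) / 2`. -/
def hQ (F : Type*) [Field F] [Fintype F] : ℤ := (Q (F := F) - 1) / 2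

include T in
theorem two_hQ : 2 * (hQ F : ℂ) = (Q (F := F) : ℂ) - 1 := by
  have h : 2 * hQ F = Q (F := F) - 1 := by
    rw [hQ, Q]
    rcases T.h8 with h | h
    · rw [if_pos h]; omega
    · rw [if_neg (by omega)]; omega
  exact_mod_cast h

include T in
theorem sn_sq : (sn F : ℂ) * (sn F : ℂ) = 1 := by
  rw [sn]; split_ifs <;> simp

include T in
theorem q_eq : (Fintype.card F : ℂ) = (sn F : ℂ) * (Q (F := F) : ℂ) := by
  rw [sn, Q]; split_ifs <;> simp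

theorem four_n : 4 * (Nat.card T.K : ℂ) = (sn F : ℂ) * ((Q (F := F) : ℂ) + 1) := by
  rw [sn, Q]
  rcases T.nums with ⟨hQ, e, -⟩ | ⟨hQ, e, -⟩ <;> rw [Q] at hQ
  · split_ifs at hQ ⊢ with h
    · rw [e]; push_cast; ring
    · have := T.h5; omega
  · split_ifs at hQ ⊢ with h
    · have := T.h5; omega
    · rw [e]; push_cast; ring

theorem two_M : 2 * (Nat.card T.M : ℂ) = (sn F : ℂ) * ((Q (F := F) : ℂ) - 1) := by
  rw [sn, Q]
  rcases T.nums with ⟨hQ, -, e, -⟩ | ⟨hQ, -, e, -⟩ <;> rw [Q] at hQ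
  · split_ifs at hQ ⊢ with h
    · rw [e]; push_cast; ring
    · have := T.h5; omega
  · split_ifs at hQ ⊢ with h
    · have := T.h5; omega
    · rw [e]; push_cast; ring

theorem index_K : (T.K.index : ℂ) = 2 * (Q (F := F) : ℂ) * ((Q (F := F) : ℂ) - 1) := by
  rcases T.nums with ⟨hQ, -, -, e, -⟩ | ⟨hQ, -, -, e, -⟩ <;> rw [e, hQ] <;> push_cast <;> ring

theorem index_M : (T.M.index : ℂ) = (Q (F := F) : ℂ) * ((Q (F := F) : ℂ) + 1) := by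
  rcases T.nums with ⟨hQ, -, -, -, e⟩ | ⟨hQ, -, -, -, e⟩ <;> rw [e, hQ] <;> push_cast <;> ring

include T in
theorem index_uni : 2 * ((uni F).index : ℂ) = (Q (F := F) : ℂ) ^ 2 - 1 := by
  rw [T.two_index_uni, T.q_eq, mul_pow, sq (sn F : ℂ), T.sn_sq, one_mul]

theorem exists_choice :
    ∃ c : (uni F →* ℂˣ) × (uni F →* ℂˣ) × Finset (T.K →* ℂˣ) × Finset (T.M →* ℂˣ),
      (c.1 ≠ 1 ∧ c.2.1 ≠ 1 ∧ cnt c.1 c.2.1 = 0) ∧
      ((1 : T.K →* ℂˣ) ∉ c.2.2.1 ∧ (∀ ψ, ψ ≠ 1 → (ψ ∈ c.2.2.1 ↔ ψ⁻¹ ∉ c.2.2.1)) ∧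
        2 * c.2.2.1.card + 1 = Nat.card T.K ∧
        ∀ x : T.K, x ≠ 1 → ∑ ψ ∈ c.2.2.1, ((ψ x : ℂ) + (ψ x : ℂ)⁻¹) = -1) ∧
      ((1 : T.M →* ℂˣ) ∉ c.2.2.2 ∧ (∀ ψ, ψ ≠ 1 → (ψ ∈ c.2.2.2 ↔ ψ⁻¹ ∉ c.2.2.2)) ∧
        2 * c.2.2.2.card + 1 = Nat.card T.M ∧
        ∀ x : T.M, x ≠ 1 → ∑ ψ ∈ c.2.2.2, ((ψ x : ℂ) + (ψ x : ℂ)⁻¹) = -1) := by
  obtain ⟨α, β, h1⟩ := exists_two (F := F) T.odd_q
  obtain ⟨HK, h2⟩ := exists_half T.comm_K T.odd_K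
  obtain ⟨HM, h3⟩ := exists_half T.comm_M T.odd_M
  exact ⟨(α, β, HK, HM), h1, h2, h3⟩

/-- The two characters of `U`. -/
noncomputable def chi (b : Bool) : uni F →* ℂˣ :=
  cond b T.exists_choice.choose.1 T.exists_choice.choose.2.1

/-- A half system of characters of `K`. -/
noncomputable def halfK : Finset (T.K →* ℂˣ) := T.exists_choice.choose.2.2.1

/-- A half system of characters of `M`. -/
noncomputable def halfM : Finset (T.M →* ℂˣ) := T.exists_choice.choose.2.2.2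

theorem chi_ne (b : Bool) : T.chi b ≠ 1 := by
  cases b
  · exact T.exists_choice.choose_spec.1.2.1
  · exact T.exists_choice.choose_spec.1.1

theorem cnt_chi (b b' : Bool) :
    (cnt (T.chi b) (T.chi b') : ℂ) = if b = b' then (Fintype.card F : ℂ) else 0 := by
  have h := T.exists_choice.choose_spec.1
  cases b <;> cases b'
  · rw [if_pos rfl, cnt_self (T.chi_ne _)]
  · rw [if_neg (by decide), show cnt (T.chi false) (T.chi true) = 0 from cnt_symm_zero h.1 h.2.2,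
      Nat.cast_zero]
  · rw [if_neg (by decide), show cnt (T.chi true) (T.chi false) = 0 from h.2.2, Nat.cast_zero]
  · rw [if_pos rfl, cnt_self (T.chi_ne _)]

theorem halfK_spec : (1 : T.K →* ℂˣ) ∉ T.halfK ∧
    (∀ ψ, ψ ≠ 1 → (ψ ∈ T.halfK ↔ ψ⁻¹ ∉ T.halfK)) ∧ 2 * T.halfK.card + 1 = Nat.card T.K ∧
    ∀ x : T.K, x ≠ 1 → ∑ ψ ∈ T.halfK, ((ψ x : ℂ) + (ψ x : ℂ)⁻¹) = -1 :=
  T.exists_choice.choose_spec.2.1

theorem halfM_spec : (1 : T.M →* ℂˣ) ∉ T.halfM ∧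
    (∀ ψ, ψ ≠ 1 → (ψ ∈ T.halfM ↔ ψ⁻¹ ∉ T.halfM)) ∧ 2 * T.halfM.card + 1 = Nat.card T.M ∧
    ∀ x : T.M, x ≠ 1 → ∑ ψ ∈ T.halfM, ((ψ x : ℂ) + (ψ x : ℂ)⁻¹) = -1 :=
  T.exists_choice.choose_spec.2.2

theorem ne_one_of_mem_halfK {ψ : T.K →* ℂˣ} (h : ψ ∈ T.halfK) : ψ ≠ 1 :=
  fun e => T.halfK_spec.1 (e ▸ h)

theorem ne_one_of_mem_halfM {ψ : T.M →* ℂˣ} (h : ψ ∈ T.halfM) : ψ ≠ 1 :=
  fun e => T.halfM_spec.1 (e ▸ h)

theorem two_k : 2 * (T.halfK.card : ℂ) + 1 = (Nat.card T.K : ℂ) := by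
  exact_mod_cast T.halfK_spec.2.2.1

theorem two_l : 2 * (T.halfM.card : ℂ) + 1 = (Nat.card T.M : ℂ) := by
  exact_mod_cast T.halfM_spec.2.2.1

variable [Fintype (Matrix.ProjectiveSpecialLinearGroup (Fin 2) F)]

/-- `E±`. -/
noncomputable def E (b : Bool) : P2 → ℂ := indH (uni F) (T.chi b)

/-- `S = E₊ + E₋`. -/
noncomputable def S : P2 → ℂ := T.E true + T.E false

/-- The half sum over `K`. -/
noncomputable def IK : P2 → ℂ := ∑ ψ ∈ T.halfK, indH T.K ψ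

/-- The half sum over `M`. -/
noncomputable def IM : P2 → ℂ := ∑ ψ ∈ T.halfM, indH T.M ψ

/-- `Φ±`. -/
noncomputable def phi (b : Bool) : P2 → ℂ := T.E b + T.IK - T.IM

/-- `Φ_λ`. -/
noncomputable def phiLam (lam : T.M →* ℂˣ) : P2 → ℂ := indH T.M lam - T.S

/-- `Φ_ψ`. -/
noncomputable def phiPsi (ψ : T.K →* ℂˣ) : P2 → ℂ := T.S + T.S - indH T.K ψ

/-- `Φ₀`. -/
noncomputable def phi0 : P2 → ℂ := T.phiLam 1

/-! ### Generalised characters vanishing at even order -/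

theorem isGen_S : Cfsg.IsGeneralizedCharacter P2 T.S :=
  IsGen.add (isGen_indH _ _) (isGen_indH _ _)

theorem isGen_phi (b : Bool) : Cfsg.IsGeneralizedCharacter P2 (T.phi b) :=
  IsGen.sub (IsGen.add (isGen_indH _ _) (IsGen.sum _ _ fun _ _ => isGen_indH _ _))
    (IsGen.sum _ _ fun _ _ => isGen_indH _ _)

theorem isGen_phiLam (lam : T.M →* ℂˣ) : Cfsg.IsGeneralizedCharacter P2 (T.phiLam lam) :=
  IsGen.sub (isGen_indH _ _) T.isGen_S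

theorem isGen_phiPsi (ψ : T.K →* ℂˣ) : Cfsg.IsGeneralizedCharacter P2 (T.phiPsi ψ) :=
  IsGen.sub (IsGen.add T.isGen_S T.isGen_S) (isGen_indH _ _)

theorem isClass_S : Cfsg.IsClassFunction P2 T.S := IsGen.isClassFunction T.isGen_S
theorem isClass_phi (b : Bool) : Cfsg.IsClassFunction P2 (T.phi b) :=
  IsGen.isClassFunction (T.isGen_phi b)
theorem isClass_phiLam (lam : T.M →* ℂˣ) : Cfsg.IsClassFunction P2 (T.phiLam lam) :=
  IsGen.isClassFunction (T.isGen_phiLam lam)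
theorem isClass_phiPsi (ψ : T.K →* ℂˣ) : Cfsg.IsClassFunction P2 (T.phiPsi ψ) :=
  IsGen.isClassFunction (T.isGen_phiPsi ψ)

theorem S_even {x : P2} (hx : ¬ Odd (orderOf x)) : T.S x = 0 := by
  simp [S, E, indH_eq_zero_of_even _ T.odd_uni _ hx]

theorem phi_even (b : Bool) {x : P2} (hx : ¬ Odd (orderOf x)) : T.phi b x = 0 := by
  simp [phi, E, IK, IM, Finset.sum_apply, indH_eq_zero_of_even _ T.odd_uni _ hx,
    indH_eq_zero_of_even _ T.odd_K _ hx, indH_eq_zero_of_even _ T.odd_M _ hx]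

theorem phiLam_even (lam : T.M →* ℂˣ) {x : P2} (hx : ¬ Odd (orderOf x)) : T.phiLam lam x = 0 := by
  simp [phiLam, T.S_even hx, indH_eq_zero_of_even _ T.odd_M _ hx]

theorem phiPsi_even (ψ : T.K →* ℂˣ) {x : P2} (hx : ¬ Odd (orderOf x)) : T.phiPsi ψ x = 0 := by
  simp [phiPsi, T.S_even hx, indH_eq_zero_of_even _ T.odd_K _ hx]

/-! ### Values -/

theorem _root_.Cfsg.Agent.H15.Ward.coprime_of_mem {A : Subgroup P2} {x : P2} (hx : x ∈ A) {N : ℕ}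
    (h : Nat.Coprime (Nat.card A) N) : Nat.Coprime (orderOf x) N :=
  h.coprime_dvd_left (Subgroup.orderOf_dvd_natCard _ hx)

theorem E_K (b : Bool) {x : P2} (hx : x ∈ T.K) (hx1 : x ≠ 1) : T.E b x = 0 :=
  indH_eq_zero_of_coprime _ _ hx1 (coprime_of_mem hx (by rw [card_cen_stdUni]; exact T.coprime_K_q))

theorem E_M (b : Bool) {x : P2} (hx : x ∈ T.M) (hx1 : x ≠ 1) : T.E b x = 0 :=
  indH_eq_zero_of_coprime _ _ hx1 (coprime_of_mem hx (by rw [card_cen_stdUni]; exact T.coprime_M_q))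

theorem indK_M (ψ : T.K →* ℂˣ) {x : P2} (hx : x ∈ T.M) (hx1 : x ≠ 1) : indH T.K ψ x = 0 :=
  indH_eq_zero_of_coprime _ _ hx1 (coprime_of_mem hx T.coprime_K_M.symm)

theorem indM_K (ψ : T.M →* ℂˣ) {x : P2} (hx : x ∈ T.K) (hx1 : x ≠ 1) : indH T.M ψ x = 0 :=
  indH_eq_zero_of_coprime _ _ hx1 (coprime_of_mem hx T.coprime_K_M)

theorem indK_uni (ψ : T.K →* ℂˣ) {x : P2} (hx : x ∈ uni F) (hx1 : x ≠ 1) : indH T.K ψ x = 0 :=
  indH_eq_zero_of_coprime _ _ hx1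
    (coprime_of_mem hx (by rw [card_cen_stdUni]; exact T.coprime_K_q.symm))

theorem indM_uni (ψ : T.M →* ℂˣ) {x : P2} (hx : x ∈ uni F) (hx1 : x ≠ 1) : indH T.M ψ x = 0 :=
  indH_eq_zero_of_coprime _ _ hx1
    (coprime_of_mem hx (by rw [card_cen_stdUni]; exact T.coprime_M_q.symm))

theorem indK_K (ψ : T.K →* ℂˣ) {x : P2} (hx : x ∈ T.K) (hx1 : x ≠ 1) :
    indH T.K ψ x = 2 * ((ψ ⟨x, hx⟩ : ℂ) + (ψ ⟨x, hx⟩ : ℂ)⁻¹) := by
  rw [indH_tor T.not_isUni_v T.K_le T.odd_K ψ hx hx1, T.card_cen_v, Nat.cast_mul, Nat.cast_ofNat,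
    mul_div_assoc, div_self (Nat.cast_ne_zero.2 Nat.card_pos.ne'), mul_one]

theorem indM_M (ψ : T.M →* ℂˣ) {x : P2} (hx : x ∈ T.M) (hx1 : x ≠ 1) :
    indH T.M ψ x = (ψ ⟨x, hx⟩ : ℂ) + (ψ ⟨x, hx⟩ : ℂ)⁻¹ := by
  have hle : T.M ≤ cen T.a := le_refl _
  rw [indH_tor T.not_isUni_a hle T.odd_M ψ hx hx1]
  rw [show (Nat.card (cen T.a) : ℂ) / (Nat.card T.M : ℂ) = 1 from
    div_self (Nat.cast_ne_zero.2 Nat.card_pos.ne'), one_mul]

theorem S_uni {x : P2} (hx : x ∈ uni F) (hx1 : x ≠ 1) : T.S x = -1 :=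
  indH_uni_add T.odd_q T.exists_choice.choose_spec.1.1 T.exists_choice.choose_spec.1.2.1
    T.exists_choice.choose_spec.1.2.2 hx hx1

theorem S_K {x : P2} (hx : x ∈ T.K) (hx1 : x ≠ 1) : T.S x = 0 := by
  simp [S, T.E_K _ hx hx1]

theorem S_M {x : P2} (hx : x ∈ T.M) (hx1 : x ≠ 1) : T.S x = 0 := by
  simp [S, T.E_M _ hx hx1]

theorem IK_K {x : P2} (hx : x ∈ T.K) (hx1 : x ≠ 1) : T.IK x = -2 := by
  rw [IK, Finset.sum_apply, Finset.sum_congr rfl fun ψ _ => T.indK_K ψ hx hx1, ← Finset.mul_sum,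
    T.halfK_spec.2.2.2 ⟨x, hx⟩ fun e => hx1 (congrArg Subtype.val e)]
  norm_num

theorem IM_M {x : P2} (hx : x ∈ T.M) (hx1 : x ≠ 1) : T.IM x = -1 := by
  rw [IM, Finset.sum_apply, Finset.sum_congr rfl fun ψ _ => T.indM_M ψ hx hx1,
    T.halfM_spec.2.2.2 ⟨x, hx⟩ fun e => hx1 (congrArg Subtype.val e)]

theorem phi_K (b : Bool) {x : P2} (hx : x ∈ T.K) (hx1 : x ≠ 1) : T.phi b x = -2 := by
  simp [phi, T.E_K b hx hx1, T.IK_K hx hx1, IM, Finset.sum_apply, T.indM_K _ hx hx1]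

theorem phi_M (b : Bool) {x : P2} (hx : x ∈ T.M) (hx1 : x ≠ 1) : T.phi b x = 1 := by
  simp [phi, T.E_M b hx hx1, T.IM_M hx hx1, IK, Finset.sum_apply, T.indK_M _ hx hx1]

theorem phiLam_K (lam : T.M →* ℂˣ) {x : P2} (hx : x ∈ T.K) (hx1 : x ≠ 1) :
    T.phiLam lam x = 0 := by
  simp [phiLam, T.S_K hx hx1, T.indM_K _ hx hx1]

theorem phiLam_uni (lam : T.M →* ℂˣ) {x : P2} (hx : x ∈ uni F) (hx1 : x ≠ 1) :
    T.phiLam lam x = 1 := by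
  simp [phiLam, T.S_uni hx hx1, T.indM_uni _ hx hx1]

theorem phiLam_M (lam : T.M →* ℂˣ) (x : T.M) (hx : x ≠ 1) :
    T.phiLam lam (x : P2) = 1 * ((lam x : ℂ) + (lam x : ℂ)⁻¹) := by
  have hx1 : (x : P2) ≠ 1 := fun e => hx (Subtype.ext e)
  simp [phiLam, T.S_M x.2 hx1, T.indM_M lam x.2 hx1]

theorem phi0_K {x : P2} (hx : x ∈ T.K) (hx1 : x ≠ 1) : T.phi0 x = 0 := T.phiLam_K 1 hx hx1

theorem phi0_M {x : P2} (hx : x ∈ T.M) (hx1 : x ≠ 1) : T.phi0 x = 2 := by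
  have h := T.phiLam_M 1 ⟨x, hx⟩ fun e => hx1 (congrArg Subtype.val e)
  rw [phi0, h]; simp; norm_num

theorem phiPsi_uni (ψ : T.K →* ℂˣ) {x : P2} (hx : x ∈ uni F) (hx1 : x ≠ 1) :
    T.phiPsi ψ x = -2 := by
  simp [phiPsi, T.S_uni hx hx1, T.indK_uni _ hx hx1]; norm_num

theorem phiPsi_M (ψ : T.K →* ℂˣ) {x : P2} (hx : x ∈ T.M) (hx1 : x ≠ 1) : T.phiPsi ψ x = 0 := by
  simp [phiPsi, T.S_M hx hx1, T.indK_M _ hx hx1]

theorem phiPsi_K (ψ : T.K →* ℂˣ) (x : T.K) (hx : x ≠ 1) :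
    T.phiPsi ψ (x : P2) = -2 * ((ψ x : ℂ) + (ψ x : ℂ)⁻¹) := by
  have hx1 : (x : P2) ≠ 1 := fun e => hx (Subtype.ext e)
  simp only [phiPsi, Pi.sub_apply, Pi.add_apply, T.S_K x.2 hx1, T.indK_K ψ x.2 hx1]
  ring

theorem S_one : T.S 1 = (Q (F := F) : ℂ) ^ 2 - 1 := by
  rw [← T.index_uni, S, Pi.add_apply, E, E, indH_one, indH_one]; ring

theorem phiLam_one (lam : T.M →* ℂˣ) : T.phiLam lam 1 = ((Q (F := F) + 1 : ℤ) : ℂ) := by
  rw [phiLam, Pi.sub_apply, indH_one, T.index_M, T.S_one]; push_cast; ring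

theorem phiPsi_one (ψ : T.K →* ℂˣ) : T.phiPsi ψ 1 = ((2 * (Q (F := F) - 1) : ℤ) : ℂ) := by
  rw [phiPsi, Pi.sub_apply, Pi.add_apply, indH_one, T.index_K, T.S_one]; push_cast; ring

theorem phi_one (b : Bool) : T.phi b 1 = ((Q (F := F) + hQ F : ℤ) : ℂ) := by
  simp only [phi, Pi.sub_apply, Pi.add_apply, E, IK, IM, Finset.sum_apply, indH_one,
    Finset.sum_const, nsmul_eq_mul, T.index_K, T.index_M]
  push_cast
  linear_combination (1 / 2 : ℂ) * T.index_uni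
    + ((Q (F := F) : ℂ) * ((Q (F := F) : ℂ) - 1)) * (T.two_k + (1 / 4 : ℂ) * T.four_n)
    - (1 / 2 : ℂ) * ((Q (F := F) : ℂ) * ((Q (F := F) : ℂ) + 1)) * (T.two_l + (1 / 2 : ℂ) * T.two_M)
    - (1 / 2 : ℂ) * T.two_hQ

end Cfsg.Agent.H15.Ward.Tori
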