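import Cfsg.Agent.H15.Ward.PslFun

/-!
# Gram matrix of `Φ₀`, `Φ±`, `Φ_ψ`, `Φ_λ`, their inner products with `1`

`Φ± · Φ± = 2`, `Φ₊ · Φ₋ = 1`, `Φ_λ · Φ± = [λ = 1]`, `Φ_ψ · Φ± = 0`, `Φ_ψ · Φ_λ = 0`,
`Φ_λ · Φ_μ = [λ = μ^±1]`, `Φ_ψ · Φ_μ = 2 [ψ = μ^±1]` (multiplicities added).
-/

set_option autoImplicit false
set_option linter.unusedSectionVars false

namespace Cfsg.Agent.H15.Ward.Tori

open Subgroup Cfsg.Agent Cfsg.Agent.Linear.Dickson Cfsg.Agent.CharBasic Cfsg.Agent.CharInduce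
open scoped ComplexConjugate Classical

variable {F : Type*} [Field F] [Fintype F] (T : Tori F)
  [Fintype (Matrix.ProjectiveSpecialLinearGroup (Fin 2) F)]

local notation "P2" => Matrix.ProjectiveSpecialLinearGroup (Fin 2) F

omit [Fintype (Matrix.ProjectiveSpecialLinearGroup (Fin 2) F)] in
theorem inv_mul_of_eq {n X c : ℂ} (hn : n ≠ 0) (h : X = c * n) : n⁻¹ * X = c := by
  rw [h, mul_comm c n, ← mul_assoc, inv_mul_cancel₀ hn, one_mul]

omit [Fintype (Matrix.ProjectiveSpecialLinearGroup (Fin 2) F)] in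
theorem half_delta {A : Type*} [Group A] {_ : DecidableEq (A →* ℂˣ)} (H : Finset (A →* ℂˣ)) (h1 : (1 : A →* ℂˣ) ∉ H)
    (h2 : ∀ ψ : A →* ℂˣ, ψ ≠ 1 → (ψ ∈ H ↔ ψ⁻¹ ∉ H)) (μ : A →* ℂˣ) :
    ∑ ψ ∈ H, ((if ψ = μ then (1 : ℂ) else 0) + if ψ = μ⁻¹ then 1 else 0) =
      if μ = 1 then 0 else 1 := by
  rw [Finset.sum_add_distrib, Finset.sum_ite_eq', Finset.sum_ite_eq']
  by_cases hμ : μ = 1
  · subst hμ
    rw [show (1 : A →* ℂˣ)⁻¹ = 1 from inv_one (G := A →* ℂˣ), if_neg h1, if_pos rfl, add_zero]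
  · rw [if_neg hμ]
    by_cases hm : μ ∈ H
    · rw [if_pos hm, if_neg ((h2 μ hμ).1 hm), add_zero]
    · rw [if_neg hm, if_pos (not_not.1 fun h => hm ((h2 μ hμ).2 h)), zero_add]

include T in
theorem card_q_ne : (Fintype.card F : ℂ) ≠ 0 := Nat.cast_ne_zero.2 Fintype.card_ne_zero

omit [Fintype (Matrix.ProjectiveSpecialLinearGroup (Fin 2) F)] in
theorem Q_eq : (Q (F := F) : ℂ) = (sn F : ℂ) * (Fintype.card F : ℂ) := by
  rw [sn, Q]; split_ifs <;> simp

omit [Fintype (Matrix.ProjectiveSpecialLinearGroup (Fin 2) F)] in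
theorem Q_add_one : (Q (F := F) : ℂ) + 1 = 4 * (sn F : ℂ) * (Nat.card T.K : ℂ) := by
  linear_combination (-(sn F : ℂ)) * T.four_n - ((Q (F := F) : ℂ) + 1) * T.sn_sq

omit [Fintype (Matrix.ProjectiveSpecialLinearGroup (Fin 2) F)] in
theorem Q_sub_one : (Q (F := F) : ℂ) - 1 = 2 * (sn F : ℂ) * (Nat.card T.M : ℂ) := by
  linear_combination (-(sn F : ℂ)) * T.two_M - ((Q (F := F) : ℂ) - 1) * T.sn_sq

theorem inner_K_phi (ψ : T.K →* ℂˣ) (b : Bool) :
    Cfsg.classInner (indH T.K ψ) (T.phi b) = 6 * (sn F : ℂ) - if ψ = 1 then 2 else 0 := by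
  rw [inner_indH_const T.K ψ (T.isClass_phi b) (c := -2) (fun x hx hx1 => T.phi_K b hx hx1),
    T.phi_one, map_intCast, map_neg, map_ofNat,
    inv_mul_of_eq (c := 6 * (sn F : ℂ)) (Nat.cast_ne_zero.2 Nat.card_pos.ne') (by
      push_cast
      linear_combination (3 / 2 : ℂ) * T.Q_add_one + (1 / 2 : ℂ) * T.two_hQ)]
  split_ifs <;> ring

theorem inner_K_lam (ψ : T.K →* ℂˣ) (lam : T.M →* ℂˣ) :
    Cfsg.classInner (indH T.K ψ) (T.phiLam lam) = 4 * (sn F : ℂ) := by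
  rw [inner_indH_const T.K ψ (T.isClass_phiLam lam) (c := 0) (fun x hx hx1 => T.phiLam_K lam hx hx1),
    T.phiLam_one, map_intCast, map_zero,
    inv_mul_of_eq (c := 4 * (sn F : ℂ)) (Nat.cast_ne_zero.2 Nat.card_pos.ne') (by
      push_cast
      linear_combination T.Q_add_one)]
  simp

theorem inner_K_psi (ψ μ : T.K →* ℂˣ) :
    Cfsg.classInner (indH T.K ψ) (T.phiPsi μ) = 8 * (sn F : ℂ) -
      2 * ((if ψ = μ then 1 else 0) + if ψ = μ⁻¹ then 1 else 0) := by
  rw [inner_indH_pm T.K ψ μ (T.isClass_phiPsi μ) (c := -2) (fun x hx => T.phiPsi_K μ x hx),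
    T.phiPsi_one, map_intCast, map_neg, map_ofNat,
    inv_mul_of_eq (c := 8 * (sn F : ℂ)) (Nat.cast_ne_zero.2 Nat.card_pos.ne') (by
      push_cast
      linear_combination 2 * T.Q_add_one)]
  ring

theorem inner_M_phi (ψ : T.M →* ℂˣ) (b : Bool) :
    Cfsg.classInner (indH T.M ψ) (T.phi b) = 3 * (sn F : ℂ) + if ψ = 1 then 1 else 0 := by
  rw [inner_indH_const T.M ψ (T.isClass_phi b) (c := 1) (fun x hx hx1 => T.phi_M b hx hx1),
    T.phi_one, map_intCast, map_one,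
    inv_mul_of_eq (c := 3 * (sn F : ℂ)) (Nat.cast_ne_zero.2 Nat.card_pos.ne') (by
      push_cast
      linear_combination (3 / 2 : ℂ) * T.Q_sub_one + (1 / 2 : ℂ) * T.two_hQ)]

theorem inner_M_psi (ψ : T.M →* ℂˣ) (μ : T.K →* ℂˣ) :
    Cfsg.classInner (indH T.M ψ) (T.phiPsi μ) = 4 * (sn F : ℂ) := by
  rw [inner_indH_const T.M ψ (T.isClass_phiPsi μ) (c := 0) (fun x hx hx1 => T.phiPsi_M μ hx hx1),
    T.phiPsi_one, map_intCast, map_zero,
    inv_mul_of_eq (c := 4 * (sn F : ℂ)) (Nat.cast_ne_zero.2 Nat.card_pos.ne') (by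
      push_cast
      linear_combination 2 * T.Q_sub_one)]
  simp

theorem inner_M_lam (ψ μ : T.M →* ℂˣ) :
    Cfsg.classInner (indH T.M ψ) (T.phiLam μ) = 2 * (sn F : ℂ) +
      ((if ψ = μ then 1 else 0) + if ψ = μ⁻¹ then 1 else 0) := by
  rw [inner_indH_pm T.M ψ μ (T.isClass_phiLam μ) (c := 1) (fun x hx => T.phiLam_M μ x hx),
    T.phiLam_one, map_intCast, map_one,
    inv_mul_of_eq (c := 2 * (sn F : ℂ)) (Nat.cast_ne_zero.2 Nat.card_pos.ne') (by
      push_cast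
      linear_combination T.Q_sub_one)]
  ring

theorem inner_E_lam (b : Bool) (lam : T.M →* ℂˣ) :
    Cfsg.classInner (T.E b) (T.phiLam lam) = (sn F : ℂ) := by
  rw [E, inner_indH_const (uni F) (T.chi b) (T.isClass_phiLam lam) (c := 1)
    (fun x hx hx1 => T.phiLam_uni lam hx hx1), if_neg (T.chi_ne b), add_zero,
    T.phiLam_one, map_intCast, map_one, card_cen_stdUni]
  exact inv_mul_of_eq T.card_q_ne (by push_cast; linear_combination Q_eq (F := F))

theorem inner_E_psi (b : Bool) (μ : T.K →* ℂˣ) :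
    Cfsg.classInner (T.E b) (T.phiPsi μ) = 2 * (sn F : ℂ) := by
  rw [E, inner_indH_const (uni F) (T.chi b) (T.isClass_phiPsi μ) (c := -2)
    (fun x hx hx1 => T.phiPsi_uni μ hx hx1), if_neg (T.chi_ne b), add_zero,
    T.phiPsi_one, map_intCast, map_neg, map_ofNat, card_cen_stdUni]
  exact inv_mul_of_eq T.card_q_ne (by push_cast; linear_combination 2 * Q_eq (F := F))

theorem inner_E_phi (b b' : Bool) :
    Cfsg.classInner (T.E b) (T.phi b') =
      3 / 2 * (sn F : ℂ) - 1 / 2 + if b = b' then 1 else 0 := by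
  have hq := T.card_q_ne
  have hcls : ∀ A : Subgroup P2, ∀ ψ : A →* ℂˣ, Cfsg.IsClassFunction P2 (indH A ψ) :=
    fun A ψ => isClass_indH A ψ
  have hK : ∀ ψ : T.K →* ℂˣ, Cfsg.classInner (T.E b) (indH T.K ψ) =
      2 * (sn F : ℂ) * ((Q (F := F) : ℂ) - 1) := by
    intro ψ
    rw [E, inner_indH_const (uni F) (T.chi b) (hcls _ _) (c := 0)
      (fun x hx hx1 => T.indK_uni ψ hx hx1), if_neg (T.chi_ne b), add_zero, indH_one, map_zero,
      sub_zero, Complex.conj_natCast, card_cen_stdUni, T.index_K]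
    exact inv_mul_of_eq hq (by linear_combination 2 * ((Q (F := F) : ℂ) - 1) * Q_eq (F := F))
  have hM : ∀ ψ : T.M →* ℂˣ, Cfsg.classInner (T.E b) (indH T.M ψ) =
      (sn F : ℂ) * ((Q (F := F) : ℂ) + 1) := by
    intro ψ
    rw [E, inner_indH_const (uni F) (T.chi b) (hcls _ _) (c := 0)
      (fun x hx hx1 => T.indM_uni ψ hx hx1), if_neg (T.chi_ne b), add_zero, indH_one, map_zero,
      sub_zero, Complex.conj_natCast, card_cen_stdUni, T.index_M]
    exact inv_mul_of_eq hq (by linear_combination ((Q (F := F) : ℂ) + 1) * Q_eq (F := F))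
  have hE : Cfsg.classInner (T.E b) (T.E b') =
      ((Fintype.card F : ℂ) - 1) / 2 + if b = b' then 1 else 0 := by
    rw [E, E, inner_uni_uni, T.cnt_chi b' b]
    have h1 := T.two_index_uni
    have h2 := T.two_card_borel_cast
    rcases eq_or_ne b b' with rfl | hne
    · rw [if_pos rfl, if_pos rfl]
      field_simp
      linear_combination (Fintype.card F : ℂ) * h1 - h2
    · rw [if_neg hne.symm, if_neg hne]
      field_simp
      linear_combination (Fintype.card F : ℂ) * h1 - h2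
  rw [phi, classInner_sub_right, classInner_add_right, hE, IK, IM, classInner_sum_right,
    classInner_sum_right, Finset.sum_congr rfl fun ψ _ => hK ψ,
    Finset.sum_congr rfl fun ψ _ => hM ψ, Finset.sum_const, Finset.sum_const, nsmul_eq_mul,
    nsmul_eq_mul]
  linear_combination (1 / 2 : ℂ) * T.q_eq +
    (sn F : ℂ) * ((Q (F := F) : ℂ) - 1) * (T.two_k + (1 / 4 : ℂ) * T.four_n) -
    (1 / 2 : ℂ) * (sn F : ℂ) * ((Q (F := F) : ℂ) + 1) * (T.two_l + (1 / 2 : ℂ) * T.two_M)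

/-- `Φ± · Φ±`. -/
theorem gram_phi_phi (b b' : Bool) :
    Cfsg.classInner (T.phi b) (T.phi b') = 1 + if b = b' then 1 else 0 := by
  rw [show T.phi b = T.E b + T.IK - T.IM from rfl, classInner_sub_left, classInner_add_left,
    T.inner_E_phi b b', IK, IM, classInner_sum_left, classInner_sum_left,
    Finset.sum_congr rfl fun ψ hψ => (T.inner_K_phi ψ b').trans
      (by rw [if_neg (T.ne_one_of_mem_halfK hψ), sub_zero]),
    Finset.sum_congr rfl fun ψ hψ => (T.inner_M_phi ψ b').trans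
      (by rw [if_neg (T.ne_one_of_mem_halfM hψ), add_zero]),
    Finset.sum_const, Finset.sum_const, nsmul_eq_mul, nsmul_eq_mul]
  linear_combination 3 * (sn F : ℂ) * T.two_k - (3 / 2 : ℂ) * (sn F : ℂ) * T.two_l -
    3 * T.Q_add_one / 4 + 3 * T.Q_sub_one / 4

/-- `Φ± · Φ_λ`. -/
theorem gram_phi_lam (b : Bool) (μ : T.M →* ℂˣ) :
    Cfsg.classInner (T.phi b) (T.phiLam μ) = if μ = 1 then 1 else 0 := by
  rw [phi, classInner_sub_left, classInner_add_left, T.inner_E_lam b μ, IK, IM,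
    classInner_sum_left, classInner_sum_left,
    Finset.sum_congr rfl fun ψ _ => T.inner_K_lam ψ μ,
    Finset.sum_congr rfl fun ψ _ => T.inner_M_lam ψ μ, Finset.sum_add_distrib,
    half_delta T.halfM T.halfM_spec.1 T.halfM_spec.2.1 μ, Finset.sum_const, Finset.sum_const,
    nsmul_eq_mul, nsmul_eq_mul]
  split_ifs
  · linear_combination 2 * (sn F : ℂ) * T.two_k - (sn F : ℂ) * T.two_l -
      T.Q_add_one / 2 + T.Q_sub_one / 2
  · linear_combination 2 * (sn F : ℂ) * T.two_k - (sn F : ℂ) * T.two_l -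
      T.Q_add_one / 2 + T.Q_sub_one / 2

/-- `Φ± · Φ_ψ`. -/
theorem gram_phi_psi (b : Bool) {μ : T.K →* ℂˣ} (hμ : μ ≠ 1) :
    Cfsg.classInner (T.phi b) (T.phiPsi μ) = 0 := by
  rw [phi, classInner_sub_left, classInner_add_left, T.inner_E_psi b μ, IK, IM,
    classInner_sum_left, classInner_sum_left,
    Finset.sum_congr rfl fun ψ _ => T.inner_K_psi ψ μ,
    Finset.sum_congr rfl fun ψ _ => T.inner_M_psi ψ μ, Finset.sum_sub_distrib,
    Finset.sum_const, Finset.sum_const, nsmul_eq_mul, nsmul_eq_mul, ← Finset.mul_sum,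
    half_delta T.halfK T.halfK_spec.1 T.halfK_spec.2.1 μ, if_neg hμ]
  linear_combination 4 * (sn F : ℂ) * T.two_k - 2 * (sn F : ℂ) * T.two_l -
    T.Q_add_one + T.Q_sub_one

/-- `Φ_λ · Φ_μ`. -/
theorem gram_lam_lam (lam μ : T.M →* ℂˣ) :
    Cfsg.classInner (T.phiLam lam) (T.phiLam μ) =
      (if lam = μ then 1 else 0) + if lam = μ⁻¹ then 1 else 0 := by
  rw [show T.phiLam lam = indH T.M lam - T.S from rfl, classInner_sub_left, T.inner_M_lam lam μ, S,
    classInner_add_left, T.inner_E_lam, T.inner_E_lam]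
  ring

/-- `Φ_ψ · Φ_λ`. -/
theorem gram_psi_lam (ψ : T.K →* ℂˣ) (μ : T.M →* ℂˣ) :
    Cfsg.classInner (T.phiPsi ψ) (T.phiLam μ) = 0 := by
  rw [phiPsi, classInner_sub_left, T.inner_K_lam ψ μ, classInner_add_left, S, classInner_add_left,
    T.inner_E_lam, T.inner_E_lam]
  ring

/-- `Φ_ψ · Φ_μ`. -/
theorem gram_psi_psi (ψ μ : T.K →* ℂˣ) :
    Cfsg.classInner (T.phiPsi ψ) (T.phiPsi μ) =
      2 * ((if ψ = μ then 1 else 0) + if ψ = μ⁻¹ then 1 else 0) := by
  rw [show T.phiPsi ψ = T.S + T.S - indH T.K ψ from rfl, classInner_sub_left, T.inner_K_psi ψ μ,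
    classInner_add_left, S, classInner_add_left, T.inner_E_psi, T.inner_E_psi]
  ring

/-! ### Against the trivial character -/

theorem inner_indH_one (A : Subgroup P2) (ψ : A →* ℂˣ) :
    Cfsg.classInner (indH A ψ) (fun _ => (1 : ℂ)) = if ψ = 1 then 1 else 0 := by
  rw [inner_indH_const A ψ (θ := fun _ => (1 : ℂ)) (fun _ _ => rfl) (c := 1) (fun _ _ _ => rfl)]
  simp

theorem one_S : Cfsg.classInner T.S (fun _ => (1 : ℂ)) = 0 := by
  rw [S, classInner_add_left, E, E, inner_indH_one, inner_indH_one, if_neg (T.chi_ne _),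
    if_neg (T.chi_ne _), add_zero]

theorem one_phi (b : Bool) : Cfsg.classInner (T.phi b) (fun _ => (1 : ℂ)) = 0 := by
  rw [phi, classInner_sub_left, classInner_add_left, E, inner_indH_one, if_neg (T.chi_ne _), IK, IM,
    classInner_sum_left, classInner_sum_left,
    Finset.sum_congr rfl fun ψ hψ => (inner_indH_one T.K ψ).trans (if_neg (T.ne_one_of_mem_halfK hψ)),
    Finset.sum_congr rfl fun ψ hψ => (inner_indH_one T.M ψ).trans (if_neg (T.ne_one_of_mem_halfM hψ))]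
  simp

theorem one_phiLam (lam : T.M →* ℂˣ) :
    Cfsg.classInner (T.phiLam lam) (fun _ => (1 : ℂ)) = if lam = 1 then 1 else 0 := by
  rw [phiLam, classInner_sub_left, T.one_S, sub_zero, inner_indH_one]

theorem one_phiPsi {ψ : T.K →* ℂˣ} (hψ : ψ ≠ 1) :
    Cfsg.classInner (T.phiPsi ψ) (fun _ => (1 : ℂ)) = 0 := by
  rw [phiPsi, classInner_sub_left, classInner_add_left, T.one_S, inner_indH_one, if_neg hψ]
  simp

end Cfsg.Agent.H15.Ward.Tori
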