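import Cfsg.Agent.H15.Ward.PslGram

/-!
# Involution-pair sums and the regular character

`pairSum θ = 2 ∑ θ(a) #{r : r² = (ra)² = 1} - 2 θ(1)` on the four families, and
`Φ₀ + h (Φ₊ + Φ₋) + (Q - 1) ∑ Φ_ψ + (Q + 1) ∑ Φ_λ` is the regular character.
-/

set_option autoImplicit false
set_option linter.unusedSectionVars false

namespace Cfsg.Agent.H15.Ward.Tori

open Subgroup Cfsg.Agent Cfsg.Agent.Linear.Dickson Cfsg.Agent.CharBasic Cfsg.Agent.CharInduce
open scoped ComplexConjugate Classical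

variable {F : Type*} [Field F] [Fintype F] (T : Tori F)
  [Fintype (Matrix.ProjectiveSpecialLinearGroup (Fin 2) F)]

local notation "P2" => Matrix.ProjectiveSpecialLinearGroup (Fin 2) F

/-- The pair sum of a function. -/
noncomputable def pairSum (θ : P2 → ℂ) : ℂ :=
  2 * ∑ a : P2, θ a * (invCount a : ℂ) - 2 * θ 1

theorem pairSum_add (θ θ' : P2 → ℂ) : pairSum (θ + θ') = pairSum θ + pairSum θ' := by
  simp only [pairSum, Pi.add_apply, add_mul, Finset.sum_add_distrib]; ring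

theorem pairSum_sub (θ θ' : P2 → ℂ) : pairSum (θ - θ') = pairSum θ - pairSum θ' := by
  simp only [pairSum, Pi.sub_apply, sub_mul, Finset.sum_sub_distrib]; ring

theorem pairSum_sum {ι : Type*} (s : Finset ι) (f : ι → P2 → ℂ) :
    pairSum (∑ i ∈ s, f i) = ∑ i ∈ s, pairSum (f i) := by
  induction s using Finset.induction_on with
  | empty => simp [pairSum]
  | insert i s hi ih => rw [Finset.sum_insert hi, Finset.sum_insert hi, pairSum_add, ih]

include T in
theorem pairSum_indH (A : Subgroup P2) (ψ : A →* ℂˣ) {c : ℂ} (hc' : conj c = c)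
    (hc : ∀ x ∈ A, x ≠ 1 → (invCount x : ℂ) = c) :
    pairSum (indH A ψ) = (A.index : ℂ) * ((Q (F := F) : ℂ) * ((Q (F := F) : ℂ) - 1) - 2 * c) +
      if ψ = 1 then 2 * c * (Nat.card P2 : ℂ) else 0 := by
  have hcl : Cfsg.IsClassFunction P2 fun a : P2 => (invCount a : ℂ) := fun g h => by
    simp only [invCount_conj]
  have h := inner_indH_const A ψ hcl hc
  rw [classInner_def, Complex.conj_natCast, hc'] at h
  simp only [Complex.conj_natCast] at h
  have hL : (Nat.card P2 : ℂ) ≠ 0 := card_ne_zero_complex _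
  have hA : (Nat.card A : ℂ) ≠ 0 := card_ne_zero_complex _
  have hi : (Nat.card A : ℂ) * (A.index : ℂ) = (Nat.card P2 : ℂ) := by
    exact_mod_cast A.card_mul_index
  have h1 : ∑ a : P2, indH A ψ a * (invCount a : ℂ) = (A.index : ℂ) * ((invCount (1 : P2) : ℂ) - c) +
      (Nat.card P2 : ℂ) * if ψ = 1 then c else 0 := by
    rw [inv_mul_eq_iff_eq_mul₀ hL] at h
    rw [h, mul_add, ← mul_assoc]
    congr 2
    rw [← hi]
    field_simp
  rw [pairSum, h1, indH_one, mul_add, ← mul_assoc]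
  have h2 := T.two_invCount_one
  split_ifs
  · linear_combination (A.index : ℂ) * h2
  · linear_combination (A.index : ℂ) * h2

theorem pairSum_E (b : Bool) :
    pairSum (T.E b) = ((uni F).index : ℂ) * ((Q (F := F) : ℂ) ^ 2 - (Fintype.card F : ℂ)) := by
  rw [E, T.pairSum_indH (uni F) (T.chi b) (c := ((Fintype.card F : ℂ) - (Q (F := F) : ℂ)) / 2)
    (by simp [map_ofNat]) (fun x hx hx1 => by
      rw [← T.invCount_uni hx hx1]; ring), if_neg (T.chi_ne b)]
  ring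

theorem pairSum_K {ψ : T.K →* ℂˣ} (hψ : ψ ≠ 1) : pairSum (indH T.K ψ) = (T.K.index : ℂ) *
    ((Q (F := F) : ℂ) * ((Q (F := F) : ℂ) - 1) - 4 * (Nat.card T.K : ℂ)) := by
  rw [T.pairSum_indH T.K ψ (c := 2 * (Nat.card T.K : ℂ)) (by simp [map_ofNat]) (fun x hx hx1 => by
      rw [T.invCount_K hx hx1]; push_cast; ring), if_neg hψ]
  ring

theorem pairSum_M (ψ : T.M →* ℂˣ) : pairSum (indH T.M ψ) = (T.M.index : ℂ) *
    ((Q (F := F) : ℂ) * ((Q (F := F) : ℂ) - 1) - 2 * (Nat.card T.M : ℂ)) +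
      if ψ = 1 then 2 * (Nat.card T.M : ℂ) * (Nat.card P2 : ℂ) else 0 :=
  T.pairSum_indH T.M ψ (by simp) (fun x hx hx1 => by rw [T.invCount_M hx hx1])

theorem pairSum_S : pairSum T.S =
    ((Q (F := F) : ℂ) ^ 2 - 1) * ((Q (F := F) : ℂ) ^ 2 - (Fintype.card F : ℂ)) := by
  rw [S, pairSum_add, T.pairSum_E, T.pairSum_E]
  linear_combination ((Q (F := F) : ℂ) ^ 2 - (Fintype.card F : ℂ)) * T.index_uni

include T in
omit [Fintype (Matrix.ProjectiveSpecialLinearGroup (Fin 2) F)] in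
theorem two_card_Q : 2 * (Nat.card P2 : ℂ) =
    (sn F : ℂ) * ((Q (F := F) : ℂ) * ((Q (F := F) : ℂ) ^ 2 - 1)) := by
  rw [T.two_card_cast, T.q_eq, mul_pow, sq (sn F : ℂ), T.sn_sq, one_mul, mul_assoc]

theorem pairSum_phiLam {lam : T.M →* ℂˣ} (h : lam ≠ 1) : pairSum (T.phiLam lam) = 0 := by
  rw [phiLam, pairSum_sub, T.pairSum_M, T.pairSum_S, if_neg h, T.index_M, T.q_eq, T.two_M]
  ring

theorem pairSum_phi0 :
    pairSum T.phi0 = (sn F : ℂ) * (Nat.card P2 : ℂ) * ((Q (F := F) : ℂ) - 1) := by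
  rw [phi0, phiLam, pairSum_sub, T.pairSum_M, T.pairSum_S, if_pos rfl, T.index_M, T.q_eq, T.two_M]
  ring

theorem pairSum_phiPsi {ψ : T.K →* ℂˣ} (h : ψ ≠ 1) :
    pairSum (T.phiPsi ψ) = 4 * (Q (F := F) : ℂ) ^ 2 * ((Q (F := F) : ℂ) - 1) := by
  rw [phiPsi, pairSum_sub, pairSum_add, T.pairSum_K h, T.pairSum_S, T.index_K, T.q_eq, T.four_n]
  ring

theorem pairSum_phi (b : Bool) : pairSum (T.phi b) =
    (Q (F := F) : ℂ) * (hQ F : ℂ) * (3 * (Q (F := F) : ℂ) - 1) := by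
  have hK : ∀ ψ ∈ T.halfK, pairSum (indH T.K ψ) = (T.K.index : ℂ) *
      ((Q (F := F) : ℂ) * ((Q (F := F) : ℂ) - 1) - 4 * (Nat.card T.K : ℂ)) := fun ψ hψ =>
    T.pairSum_K (T.ne_one_of_mem_halfK hψ)
  have hM : ∀ ψ ∈ T.halfM, pairSum (indH T.M ψ) = (T.M.index : ℂ) *
      ((Q (F := F) : ℂ) * ((Q (F := F) : ℂ) - 1) - 2 * (Nat.card T.M : ℂ)) := fun ψ hψ => by
    rw [T.pairSum_M ψ, if_neg (T.ne_one_of_mem_halfM hψ), add_zero]
  rw [phi, pairSum_sub, pairSum_add, T.pairSum_E, IK, IM, pairSum_sum, pairSum_sum,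
    Finset.sum_congr rfl hK, Finset.sum_congr rfl hM, Finset.sum_const, Finset.sum_const,
    nsmul_eq_mul, nsmul_eq_mul, T.index_K, T.index_M, T.four_n, T.two_M, T.q_eq]
  have ek : (T.halfK.card : ℂ) = (sn F : ℂ) * ((Q (F := F) : ℂ) + 1) / 8 - 1 / 2 := by
    linear_combination (1 / 2 : ℂ) * T.two_k + (1 / 8 : ℂ) * T.four_n
  have el : (T.halfM.card : ℂ) = (sn F : ℂ) * ((Q (F := F) : ℂ) - 1) / 4 - 1 / 2 := by
    linear_combination (1 / 2 : ℂ) * T.two_l + (1 / 4 : ℂ) * T.two_M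
  have hU : ((uni F).index : ℂ) = ((Q (F := F) : ℂ) ^ 2 - 1) / 2 := by
    linear_combination (1 / 2 : ℂ) * T.index_uni
  have hh : (hQ F : ℂ) = ((Q (F := F) : ℂ) - 1) / 2 := by linear_combination (1 / 2 : ℂ) * T.two_hQ
  rw [ek, el, hU, hh]
  linear_combination -(1 / 2 : ℂ) * (Q (F := F) : ℂ) * ((Q (F := F) : ℂ) - 1) *
    ((Q (F := F) : ℂ) + 1) * T.sn_sq

/-! ### The regular character -/

/-- `Ind_M 1 + 2 IM` is the regular character. -/
theorem sum_M_eq {a : P2} (ha : a ≠ 1) :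
    indH T.M (1 : T.M →* ℂˣ) a + 2 * T.IM a = 0 := by
  obtain ⟨w, hw, hinv⟩ := tor_inverter T.not_isUni_a
  have hwi : w⁻¹ = w := inv_eq_of_mul_eq_one_left hw
  have hwm : ∀ z ∈ T.M, w * z * w = z⁻¹ := fun z hz => by
    have h := hinv z hz; rwa [hwi] at h
  have hsymm : ∀ ψ : T.M →* ℂˣ,
      indH T.M ψ a = Cfsg.indFun T.M (fun z => ((ψ z : ℂ))⁻¹) a := by
    intro ψ
    rw [indH, indFun_apply, indFun_apply]
    congr 1
    refine Fintype.sum_equiv (Equiv.mulRight w) _ _ fun x => ?_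
    show _ = Cfsg.extendByZero T.M _ ((x * w)⁻¹ * a * (x * w))
    rw [show (x * w)⁻¹ * a * (x * w) = w⁻¹ * (x⁻¹ * a * x) * w by group, hwi]
    by_cases hm : x⁻¹ * a * x ∈ T.M
    · have hm' : w * (x⁻¹ * a * x) * w ∈ T.M := by rw [hwm _ hm]; exact inv_mem hm
      rw [extendByZero_of_mem _ hm, extendByZero_of_mem _ hm',
        show (⟨_, hm'⟩ : T.M) = (⟨_, hm⟩ : T.M)⁻¹ from Subtype.ext (hwm _ hm), map_inv,
        Units.val_inv_eq_inv_val, inv_inv]
    · rw [extendByZero_of_not_mem _ hm, extendByZero_of_not_mem]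
      intro hm'
      refine hm ?_
      have h := hwm _ hm'
      have e : w * (w * (x⁻¹ * a * x) * w) * w = x⁻¹ * a * x := by
        calc w * (w * (x⁻¹ * a * x) * w) * w = (w * w) * (x⁻¹ * a * x) * (w * w) := by group
          _ = x⁻¹ * a * x := by rw [hw]; group
      rw [e] at h
      rw [h]
      exact inv_mem hm'
  have hf : (fun z : T.M => ((1 : T.M →* ℂˣ) z : ℂ)) +
      ∑ ψ ∈ T.halfM, ((fun z : T.M => (ψ z : ℂ)) + fun z : T.M => ((ψ z : ℂ))⁻¹) =
      fun z : T.M => if z = 1 then (Nat.card T.M : ℂ) else 0 := by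
    funext z
    rw [Pi.add_apply, Finset.sum_apply]
    simp only [Pi.add_apply, MonoidHom.one_apply, Units.val_one]
    split_ifs with hz
    · subst hz
      simp only [map_one, Units.val_one, inv_one, Finset.sum_const, nsmul_eq_mul]
      linear_combination T.two_l
    · rw [T.halfM_spec.2.2.2 z hz]; norm_num
  have h1 : Cfsg.indFun T.M (fun z : T.M => if z = 1 then (Nat.card T.M : ℂ) else 0) a = 0 := by
    rw [indFun_apply, Finset.sum_eq_zero, mul_zero]
    intro x _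
    by_cases hm : x⁻¹ * a * x ∈ T.M
    · rw [extendByZero_of_mem _ hm, if_neg fun e => ha ?_]
      have e' : x⁻¹ * a * x = 1 := congrArg Subtype.val e
      calc a = x * (x⁻¹ * a * x) * x⁻¹ := by group
        _ = 1 := by rw [e']; group
    · rw [extendByZero_of_not_mem _ hm]
  rw [← hf, indFun_add, indFun_sum, Pi.add_apply, Finset.sum_apply] at h1
  simp only [indFun_add, Pi.add_apply] at h1
  rw [IM, Finset.sum_apply, Finset.mul_sum]
  rw [Finset.sum_congr rfl fun ψ _ => show (2 : ℂ) * indH T.M ψ a =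
    indH T.M ψ a + Cfsg.indFun T.M (fun z => ((ψ z : ℂ))⁻¹) a by rw [← hsymm ψ]; ring]
  exact h1

/-- The combination of the families equal to the regular character. -/
noncomputable def regular (a : P2) : ℂ :=
  T.phi0 a + (hQ F : ℂ) * (T.phi true a + T.phi false a) +
    ((Q (F := F) : ℂ) - 1) * ∑ ψ ∈ T.halfK, T.phiPsi ψ a +
    ((Q (F := F) : ℂ) + 1) * ∑ lam ∈ T.halfM, T.phiLam lam a

theorem regular_eq (a : P2) : T.regular a = indH T.M (1 : T.M →* ℂˣ) a + 2 * T.IM a := by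
  have hk : ∑ ψ ∈ T.halfK, T.phiPsi ψ a = 2 * (T.halfK.card : ℂ) * T.S a - T.IK a := by
    simp only [phiPsi, IK, Pi.sub_apply, Pi.add_apply, Finset.sum_apply, Finset.sum_sub_distrib,
      Finset.sum_add_distrib, Finset.sum_const, nsmul_eq_mul]
    ring
  have hl : ∑ lam ∈ T.halfM, T.phiLam lam a = T.IM a - (T.halfM.card : ℂ) * T.S a := by
    simp only [phiLam, IM, Pi.sub_apply, Finset.sum_apply, Finset.sum_sub_distrib, Finset.sum_const,
      nsmul_eq_mul]
  have hS : T.S a = T.E true a + T.E false a := rfl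
  rw [regular, hk, hl]
  simp only [phi0, phiLam, phi, Pi.sub_apply, Pi.add_apply]
  linear_combination (-(hQ F : ℂ)) * hS + (T.IK a - T.IM a) * T.two_hQ +
    T.S a * ((1 / 2 : ℂ) * T.two_hQ + ((Q (F := F) : ℂ) - 1) * (T.two_k + (1 / 4 : ℂ) * T.four_n)
      - (1 / 2 : ℂ) * ((Q (F := F) : ℂ) + 1) * (T.two_l + (1 / 2 : ℂ) * T.two_M))

theorem regular_zero {a : P2} (ha : a ≠ 1) : T.regular a = 0 :=
  (T.regular_eq a).trans (T.sum_M_eq ha)

theorem regular_one : T.regular 1 = (Nat.card P2 : ℂ) := by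
  rw [T.regular_eq, IM, Finset.sum_apply, Finset.sum_congr rfl fun ψ _ => indH_one T.M ψ,
    Finset.sum_const, nsmul_eq_mul, indH_one]
  have h : (Nat.card T.M : ℂ) * (T.M.index : ℂ) = (Nat.card P2 : ℂ) := by
    exact_mod_cast T.M.card_mul_index
  linear_combination (T.M.index : ℂ) * T.two_l + h

end Cfsg.Agent.H15.Ward.Tori
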