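import Cfsg.Agent.H15.Ward.PslKappa
import Cfsg.Agent.H84.Ward.TRows

/-!
# The functions of `PSL₂(q)` as an `LSide`

Index `inl 0, inl 1, inl 2` for `Φ₀, Φ₊, Φ₋`, then `Φ_ψ` over a half system of characters of `K` and
`Φ_λ` over a half system of characters of `M`.
-/

set_option autoImplicit false
set_option linter.unusedSectionVars false

namespace Cfsg.Agent.H15.Ward.Tori

open Subgroup Cfsg.Agent Cfsg.Agent.Linear.Dickson Cfsg.Agent.CharBasic Cfsg.Agent.CharInduce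
open Cfsg.Agent.H84.Ward (VanEven LSide)
open scoped ComplexConjugate Classical

variable {F : Type*} [Field F] [Fintype F] (T : Tori F)
  [Fintype (Matrix.ProjectiveSpecialLinearGroup (Fin 2) F)]

local notation "P2" => Matrix.ProjectiveSpecialLinearGroup (Fin 2) F

/-- The index of the defect one functions. -/
abbrev J : Type _ := {ψ : T.K →* ℂˣ // ψ ∈ T.halfK}

/-- The index of the defect zero functions. -/
abbrev W : Type _ := {lam : T.M →* ℂˣ // lam ∈ T.halfM}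

/-- The three principal functions. -/
noncomputable def prin (i : Fin 3) : P2 → ℂ :=
  if i = 0 then T.phi0 else T.phi (decide (i = 1))

/-- All the functions. -/
noncomputable def fn : Fin 3 ⊕ T.J ⊕ T.W → P2 → ℂ
  | .inl i => T.prin i
  | .inr (.inl ψ) => T.phiPsi ψ.1
  | .inr (.inr lam) => T.phiLam lam.1

/-- The Gram matrix. -/
noncomputable def gramMat : Fin 3 ⊕ T.J ⊕ T.W → Fin 3 ⊕ T.J ⊕ T.W → ℤ
  | .inl i, .inl i' => if i = i' then 2 else 1
  | .inr (.inl ψ), .inr (.inl μ) => if ψ = μ then 2 else 0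
  | .inr (.inr l), .inr (.inr μ) => if l = μ then 1 else 0
  | _, _ => 0

/-- The inner products with `1`. -/
def oneVec : Fin 3 ⊕ T.J ⊕ T.W → ℤ
  | .inl i => if i = 0 then 1 else 0
  | _ => 0

/-- The coefficients of the regular character. -/
def regVec : Fin 3 ⊕ T.J ⊕ T.W → ℤ
  | .inl i => if i = 0 then 1 else hQ F
  | .inr (.inl _) => 2 * hQ F
  | .inr (.inr _) => 2 * hQ F + 2

/-- The pair sums. -/
noncomputable def sumVec : Fin 3 ⊕ T.J ⊕ T.W → ℤ
  | .inl i => if i = 0 then sn F * (Nat.card P2 : ℤ) * (Q (F := F) - 1)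
      else Q (F := F) * hQ F * (3 * Q (F := F) - 1)
  | .inr (.inl _) => 4 * Q (F := F) ^ 2 * (Q (F := F) - 1)
  | .inr (.inr _) => 0

theorem van_fn (i : Fin 3 ⊕ T.J ⊕ T.W) : VanEven (T.fn i) := by
  rcases i with i | ψ | lam
  · show VanEven (T.prin i)
    rw [prin]
    split_ifs
    · exact ⟨T.isGen_phiLam 1, fun a ha => T.phiLam_even 1 ha⟩
    · exact ⟨T.isGen_phi _, fun a ha => T.phi_even _ ha⟩
  · exact ⟨T.isGen_phiPsi _, fun a ha => T.phiPsi_even _ ha⟩
  · exact ⟨T.isGen_phiLam _, fun a ha => T.phiLam_even _ ha⟩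

theorem hom_inv_one {A : Type*} [Group A] : (1 : A →* ℂˣ)⁻¹ = 1 := inv_one (G := A →* ℂˣ)

theorem prin_prin (i i' : Fin 3) :
    Cfsg.classInner (T.prin i) (T.prin i') = if i = i' then 2 else 1 := by
  have h00 : Cfsg.classInner T.phi0 T.phi0 = 2 := by
    rw [phi0, T.gram_lam_lam, if_pos rfl, if_pos hom_inv_one.symm]; norm_num
  have hb0 : ∀ b, Cfsg.classInner (T.phi b) T.phi0 = 1 := fun b => by
    rw [phi0, T.gram_phi_lam, if_pos rfl]
  have h0b : ∀ b, Cfsg.classInner T.phi0 (T.phi b) = 1 := fun b => by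
    rw [← classInner_conj_symm, hb0 b, map_one]
  fin_cases i <;> fin_cases i' <;> norm_num [prin, h00, hb0, h0b, T.gram_phi_phi]

theorem prin_psi (i : Fin 3) {μ : T.K →* ℂˣ} (hμ : μ ≠ 1) :
    Cfsg.classInner (T.prin i) (T.phiPsi μ) = 0 := by
  rw [prin]
  split_ifs
  · rw [phi0, ← classInner_conj_symm, T.gram_psi_lam, map_zero]
  · exact T.gram_phi_psi _ hμ

theorem prin_lam (i : Fin 3) {μ : T.M →* ℂˣ} (hμ : μ ≠ 1) :
    Cfsg.classInner (T.prin i) (T.phiLam μ) = 0 := by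
  rw [prin]
  split_ifs
  · rw [phi0, T.gram_lam_lam, if_neg hμ.symm,
      if_neg fun e => hμ (by rw [← inv_inv (G := T.M →* ℂˣ) μ, ← e]; exact hom_inv_one), add_zero]
  · rw [T.gram_phi_lam, if_neg hμ]

theorem gram_fn (i j : Fin 3 ⊕ T.J ⊕ T.W) :
    Cfsg.classInner (T.fn i) (T.fn j) = (T.gramMat i j : ℂ) := by
  rcases i with i | ψ | l <;> rcases j with j | μ | m <;> simp only [fn, gramMat]
  · rw [T.prin_prin]; split_ifs <;> norm_num
  · rw [T.prin_psi i (T.ne_one_of_mem_halfK μ.2), Int.cast_zero]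
  · rw [T.prin_lam i (T.ne_one_of_mem_halfM m.2), Int.cast_zero]
  · rw [← classInner_conj_symm, T.prin_psi j (T.ne_one_of_mem_halfK ψ.2), map_zero, Int.cast_zero]
  · rw [T.gram_psi_psi]
    have h2 : ψ.1 ≠ (μ.1)⁻¹ := fun e =>
      (T.halfK_spec.2.1 μ.1 (T.ne_one_of_mem_halfK μ.2)).1 μ.2 (e ▸ ψ.2)
    rcases eq_or_ne ψ μ with rfl | hne
    · rw [if_pos rfl, if_neg h2, if_pos rfl]; norm_num
    · rw [if_neg (fun e => hne (Subtype.ext e)), if_neg h2, if_neg hne]; norm_num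
  · rw [T.gram_psi_lam, Int.cast_zero]
  · rw [← classInner_conj_symm, T.prin_lam j (T.ne_one_of_mem_halfM l.2), map_zero, Int.cast_zero]
  · rw [← classInner_conj_symm, T.gram_psi_lam, map_zero, Int.cast_zero]
  · rw [T.gram_lam_lam]
    have h2 : l.1 ≠ (m.1)⁻¹ := fun e =>
      (T.halfM_spec.2.1 m.1 (T.ne_one_of_mem_halfM m.2)).1 m.2 (e ▸ l.2)
    rcases eq_or_ne l m with rfl | hne
    · rw [if_pos rfl, if_neg h2, if_pos rfl]; norm_num
    · rw [if_neg (fun e => hne (Subtype.ext e)), if_neg h2, if_neg hne]; norm_num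

theorem one_fn (i : Fin 3 ⊕ T.J ⊕ T.W) :
    Cfsg.classInner (T.fn i) (fun _ => (1 : ℂ)) = (T.oneVec i : ℂ) := by
  rcases i with i | ψ | lam <;> simp only [fn, oneVec]
  · rw [prin]
    split_ifs
    · rw [phi0, T.one_phiLam, if_pos rfl, Int.cast_one]
    · rw [T.one_phi, Int.cast_zero]
  · rw [T.one_phiPsi (T.ne_one_of_mem_halfK ψ.2), Int.cast_zero]
  · rw [T.one_phiLam, if_neg (T.ne_one_of_mem_halfM lam.2), Int.cast_zero]

theorem reg_fn (a : P2) :
    ∑ i, (T.regVec i : ℂ) * T.fn i a = T.regular a := by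
  rw [Fintype.sum_sum_type, Fintype.sum_sum_type, Fin.sum_univ_three,
    add_assoc]
  simp only [fn, regVec, regular]
  rw [← Finset.mul_sum, ← Finset.mul_sum, Finset.univ_eq_attach, Finset.univ_eq_attach,
    Finset.sum_attach T.halfK fun ψ => T.phiPsi ψ a, Finset.sum_attach T.halfM fun l => T.phiLam l a]
  simp only [prin, if_true, show (1 : Fin 3) ≠ 0 by decide, show (2 : Fin 3) ≠ 0 by decide, if_false,
    decide_true, show decide ((2 : Fin 3) = 1) = false by decide]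
  push_cast
  linear_combination (∑ ψ ∈ T.halfK, T.phiPsi ψ a + ∑ l ∈ T.halfM, T.phiLam l a) * T.two_hQ

theorem sum_fn (i : Fin 3 ⊕ T.J ⊕ T.W) :
    pairSum (T.fn i) = (T.sumVec i : ℂ) := by
  rcases i with i | ψ | lam <;> simp only [fn, sumVec]
  · rw [prin]
    split_ifs
    · rw [T.pairSum_phi0]; push_cast; rfl
    · rw [T.pairSum_phi]; push_cast; rfl
  · rw [T.pairSum_phiPsi (T.ne_one_of_mem_halfK ψ.2)]; push_cast; rfl
  · rw [T.pairSum_phiLam (T.ne_one_of_mem_halfM lam.2), Int.cast_zero]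

/-- The `L` side. -/
noncomputable def side : LSide P2 (Fin 3 ⊕ T.J ⊕ T.W) where
  θ := T.fn
  van := T.van_fn
  g := T.gramMat
  hg := T.gram_fn
  one := T.oneVec
  hone := T.one_fn
  c := T.regVec
  reg a ha := (T.reg_fn a).trans (T.regular_zero ha)
  reg1 := (T.reg_fn 1).trans T.regular_one
  S := T.sumVec
  hS i := by
    rw [H84.Ward.sum_pairs (T.van_fn i), ← T.sum_fn i]
    rfl

/-- `Φ₀` on `M#`. -/
theorem side_zero_M {x : P2} (hx : x ∈ T.M) (hx1 : x ≠ 1) : T.side.θ (.inl 0) x = 2 :=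
  T.phi0_M hx hx1

/-- `Φ±` on `M#`. -/
theorem side_a_M {i : Fin 3} (hi : i ≠ 0) {x : P2} (hx : x ∈ T.M) (hx1 : x ≠ 1) :
    T.side.θ (.inl i) x = 1 := by
  show T.prin i x = 1
  rw [prin, if_neg hi]
  exact T.phi_M _ hx hx1

include T in
/-- `|Q + 1| ≠ 0` and the sign of `Q`. -/
theorem sign_Q : Int.sign (Q (F := F)) = sn F := by
  have := T.h5
  rw [Q, sn]
  split_ifs
  · exact Int.sign_eq_one_of_pos (by omega)
  · exact Int.sign_eq_neg_one_of_neg (by omega)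

theorem side_S_a (i : Fin 3) (hi : i ≠ 0) : T.side.S (.inl i) * (Q (F := F) + 1) =
    Int.sign (Q (F := F)) * (Nat.card P2 : ℤ) * (3 * Q (F := F) - 1) := by
  show T.sumVec (.inl i) * _ = _
  simp only [sumVec, if_neg hi, T.sign_Q]
  have h : ((Q (F := F) * hQ F * (3 * Q (F := F) - 1) * (Q (F := F) + 1) : ℤ) : ℂ) =
      ((sn F * (Nat.card P2 : ℤ) * (3 * Q (F := F) - 1) : ℤ) : ℂ) := by
    push_cast
    linear_combination (1 / 2 : ℂ) * (3 * (Q (F := F) : ℂ) - 1) * ((Q (F := F) : ℂ) *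
      ((Q (F := F) : ℂ) + 1) * T.two_hQ - (sn F : ℂ) * T.two_card_Q -
      (Q (F := F) : ℂ) * ((Q (F := F) : ℂ) ^ 2 - 1) * T.sn_sq)
  exact_mod_cast h

theorem side_S_p (j : T.J) : T.side.S (.inr (.inl j)) * (Q (F := F) + 1) =
    Int.sign (Q (F := F)) * (Nat.card P2 : ℤ) * (8 * Q (F := F)) := by
  show T.sumVec (.inr (.inl j)) * _ = _
  simp only [sumVec, T.sign_Q]
  have h : ((4 * Q (F := F) ^ 2 * (Q (F := F) - 1) * (Q (F := F) + 1) : ℤ) : ℂ) =
      ((sn F * (Nat.card P2 : ℤ) * (8 * Q (F := F)) : ℤ) : ℂ) := by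
    push_cast
    linear_combination -4 * (Q (F := F) : ℂ) * ((sn F : ℂ) * T.two_card_Q +
      (Q (F := F) : ℂ) * ((Q (F := F) : ℂ) ^ 2 - 1) * T.sn_sq)
  exact_mod_cast h

end Cfsg.Agent.H15.Ward.Tori
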