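import Cfsg.Agent.Linear.Dickson.Orders
import Cfsg.Agent.Linear.Dickson.Borel
import Cfsg.Agent.H15.Ward.OddInd

/-!
# Local facts about tori and the unipotent subgroup of `PSL₂(q)`

Fusion, centralisers and the number of involutions inverting an element.
-/

set_option autoImplicit false
set_option linter.unusedSectionVars false

namespace Cfsg.Agent.H15.Ward

open Subgroup Cfsg.Agent Cfsg.Agent.Linear.Dickson

variable {F : Type*} [Field F] [Fintype F]

local notation "P2" => Matrix.ProjectiveSpecialLinearGroup (Fin 2) F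

theorem sq_ne_one_of_odd {G : Type*} [Group G] {x : G} (hx : x ≠ 1) (ho : Odd (orderOf x)) :
    x * x ≠ 1 := fun h => by
  rcases (Nat.dvd_prime Nat.prime_two).1 (orderOf_dvd_of_pow_eq_one (by rw [pow_two, h] : x ^ 2 = 1))
    with h1 | h1
  · exact hx (orderOf_eq_one_iff.1 h1)
  · rw [h1] at ho; exact absurd ho (by decide)

/-- Involutions inverting `x`, when an involution inverts the centraliser `A` of `x`. -/
theorem card_inverters {G : Type*} [Group G] (A : Subgroup G) {x w : G} (hx : x ∈ A)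
    (hC : ∀ g : G, Commute g x → g ∈ A) (hw : w * w = 1) (hinv : ∀ y ∈ A, w * y * w⁻¹ = y⁻¹) :
    Nat.card {r : G // r * r = 1 ∧ (r * x) * (r * x) = 1} = Nat.card A := by
  have hwi : w⁻¹ = w := inv_eq_of_mul_eq_one_left hw
  have hsq : ∀ y ∈ A, w * y * (w * y) = 1 := fun y hy => by
    have h := hinv y hy
    rw [hwi] at h
    calc w * y * (w * y) = w * y * w * y := by group
      _ = 1 := by rw [h, inv_mul_cancel]
  have hfor : ∀ y : A, w * (y : G) * (w * y) = 1 ∧ w * y * x * (w * y * x) = 1 := fun y =>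
    ⟨hsq _ y.2, by rw [mul_assoc w]; exact hsq _ (mul_mem y.2 hx)⟩
  refine (Nat.card_congr (Equiv.ofBijective (fun y : A =>
    (⟨w * y, hfor y⟩ : {r : G // r * r = 1 ∧ (r * x) * (r * x) = 1})) ⟨?_, ?_⟩)).symm
  · intro y z h
    exact Subtype.ext (mul_left_cancel (congrArg Subtype.val h))
  · rintro ⟨r, hr, hrx⟩
    have hri : r⁻¹ = r := inv_eq_of_mul_eq_one_left hr
    have h1 : r * x * r = x⁻¹ := eq_inv_of_mul_eq_one_left (by rw [← hrx]; group)
    have h2 : w * x⁻¹ * w = x := by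
      have h := hinv x⁻¹ (inv_mem hx)
      rwa [hwi, inv_inv] at h
    have hy : w * r ∈ A := hC _ (mul_inv_eq_iff_eq_mul.1 <| by
      rw [mul_inv_rev, hwi, hri]
      calc w * r * x * (r * w) = w * (r * x * r) * w := by group
        _ = x := by rw [h1, h2])
    exact ⟨⟨w * r, hy⟩, Subtype.ext (by show w * (w * r) = r; rw [← mul_assoc, hw, one_mul])⟩

/-! ### Tori -/

theorem tor_centralizer {a x g : P2} (ha : ¬ IsUni a) (hx : x ∈ cen a) (h2 : x * x ≠ 1)
    (hg : Commute g x) : g ∈ cen a := by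
  have hx1 : x ≠ 1 := fun e => h2 (by rw [e, one_mul])
  have he : cen x = cen a := cen_eq_of_mem (ne_one_of_not_isUni ha) hx1 hx
  refine (normalizer_cases ha (g := g) ?_).resolve_right fun h => h2 ?_
  · intro z
    rw [← he]
    have h := mem_cen_conj g x z
    rw [hg.eq, mul_inv_cancel_right] at h
    exact h.symm
  · have := h.2 x hx
    rw [hg.eq, mul_inv_cancel_right] at this
    exact eq_inv_iff_mul_eq_one.1 this

theorem tor_fusion {a x g : P2} (ha : ¬ IsUni a) (hx : x ∈ cen a) (hx1 : x ≠ 1)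
    (hg : g⁻¹ * x * g ∈ cen a) : g⁻¹ * x * g = x ∨ g⁻¹ * x * g = x⁻¹ := by
  have ha1 := ne_one_of_not_isUni ha
  have hy1 : g⁻¹ * x * g ≠ 1 := fun e => hx1 (by
    calc x = g * (g⁻¹ * x * g) * g⁻¹ := by group
      _ = 1 := by rw [e]; group)
  have hex : cen x = cen a := cen_eq_of_mem ha1 hx1 hx
  have hey : cen (g⁻¹ * x * g) = cen a := cen_eq_of_mem ha1 hy1 hg
  rcases normalizer_cases ha (g := g⁻¹) (fun z => by
      have h := mem_cen_conj g⁻¹ x z
      rw [inv_inv, hey, hex] at h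
      rw [inv_inv]
      exact h.symm) with h | ⟨-, h⟩
  · left
    rw [cen_comm ha1 h hx, inv_mul_cancel_right]
  · right
    simpa using h x hx

theorem tor_centralizer_eq {a x : P2} (ha : ¬ IsUni a) (hx : x ∈ cen a) (h2 : x * x ≠ 1) :
    centralizer ({x} : Set P2) = cen a := by
  ext g
  rw [mem_centralizer_singleton_iff]
  exact ⟨fun h => tor_centralizer ha hx h2 h, fun h => cen_comm (ne_one_of_not_isUni ha) h hx⟩

theorem tor_inverter {a : P2} (ha : ¬ IsUni a) :
    ∃ w : P2, w * w = 1 ∧ ∀ y ∈ cen a, w * y * w⁻¹ = y⁻¹ := by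
  obtain ⟨w, -, -, h1, h2⟩ := exists_torus_inverter ha
  exact ⟨w, h1, h2⟩

theorem tor_inverters {a x : P2} (ha : ¬ IsUni a) (hx : x ∈ cen a) (h2 : x * x ≠ 1) :
    Nat.card {r : P2 // r * r = 1 ∧ (r * x) * (r * x) = 1} = Nat.card (cen a) := by
  obtain ⟨w, hw, hinv⟩ := tor_inverter ha
  exact card_inverters (cen a) hx (fun g hg => tor_centralizer ha hx h2 hg) hw hinv

open scoped Classical in
/-- The value of a character induced from an odd subgroup of a torus. -/
theorem indH_tor [Fintype P2] {a : P2} (ha : ¬ IsUni a) {A : Subgroup P2} (hA : A ≤ cen a)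
    (hodd : Odd (Nat.card A)) (ψ : ↥A →* ℂˣ) {x : P2} (hx : x ∈ A) (hx1 : x ≠ 1) :
    indH A ψ x = (Nat.card (cen a) : ℂ) / (Nat.card A : ℂ) *
      ((ψ ⟨x, hx⟩ : ℂ) + (ψ ⟨x, hx⟩ : ℂ)⁻¹) := by
  have h2 := sq_ne_one_of_odd hx1 (Odd.of_dvd_nat hodd (Subgroup.orderOf_dvd_natCard A hx))
  obtain ⟨w, hw, hinv⟩ := tor_inverter ha
  have hwi : w⁻¹ = w := inv_eq_of_mul_eq_one_left hw
  have h := indH_eq_of_inverted A ψ hx h2 (fun g hg => tor_fusion ha (hA hx) hx1 (hA hg))
    (w := w) (by rw [hwi]; have h := hinv x (hA hx); rwa [hwi] at h)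
  rwa [tor_centralizer_eq ha (hA hx) h2] at h

/-! ### The unipotent subgroup -/

theorem uni_mem_borel {x g : P2} (hx : x ∈ cen (stdUni : P2)) (hx1 : x ≠ 1)
    (hg : g * x * g⁻¹ ∈ cen (stdUni : P2)) : g ∈ borel F :=
  mem_borel_of_conj hx hx1 hg

theorem uni_centralizer {x g : P2} (hx : x ∈ cen (stdUni : P2)) (hx1 : x ≠ 1)
    (hg : Commute g x) : g ∈ cen (stdUni : P2) :=
  mem_cen_stdUni_of_commute (uni_mem_borel hx hx1 (by rw [hg.eq, mul_inv_cancel_right]; exact hx))
    hx hx1 hg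

theorem uni_centralizer_eq {x : P2} (hx : x ∈ cen (stdUni : P2)) (hx1 : x ≠ 1) :
    centralizer ({x} : Set P2) = cen (stdUni : P2) := by
  ext g
  rw [mem_centralizer_singleton_iff]
  exact ⟨fun h => uni_centralizer hx hx1 h, fun h => cen_comm stdUni_ne_one h hx⟩

theorem two_mul_card_borel (hodd : Odd (Fintype.card F)) :
    2 * Nat.card (borel F) = Fintype.card F * (Fintype.card F - 1) := by
  have h := card_borel (F := F)
  rwa [Nat.gcd_eq_left (by obtain ⟨k, hk⟩ := hodd; omega)] at h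

theorem two_mul_card_psl (hodd : Odd (Fintype.card F)) :
    2 * Nat.card P2 = Fintype.card F * (Fintype.card F - 1) * (Fintype.card F + 1) := by
  rw [← (borel F).card_mul_index, ← mul_assoc, two_mul_card_borel hodd, index_borel]

theorem uni_inverters_zero (h4 : Fintype.card F % 4 = 3) {x : P2} (hx : x ∈ cen (stdUni : P2))
    (hx1 : x ≠ 1) : Nat.card {r : P2 // r * r = 1 ∧ (r * x) * (r * x) = 1} = 0 := by
  have hodd : Odd (Fintype.card F) := Nat.odd_iff.2 (by omega)
  have hB : Odd (Nat.card (borel F)) := by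
    obtain ⟨k, hk⟩ : ∃ k, Fintype.card F = 4 * k + 3 := ⟨Fintype.card F / 4, by omega⟩
    have h2 := two_mul_card_borel hodd
    rw [hk, show 4 * k + 3 - 1 = 2 * (2 * k + 1) by omega, mul_left_comm] at h2
    rw [Nat.eq_of_mul_eq_mul_left two_pos h2]
    exact (Nat.odd_iff.2 (by omega)).mul ⟨k, rfl⟩
  have hx2 : x * x ≠ 1 := sq_ne_one_of_odd hx1 (Odd.of_dvd_nat
    (by rw [card_cen_stdUni]; exact hodd) (Subgroup.orderOf_dvd_natCard _ hx))
  have : IsEmpty {r : P2 // r * r = 1 ∧ (r * x) * (r * x) = 1} := ⟨fun ⟨r, hr, hrx⟩ => by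
    have hri : r⁻¹ = r := inv_eq_of_mul_eq_one_left hr
    have h1 : r * x * r = x⁻¹ := eq_inv_of_mul_eq_one_left (by rw [← hrx]; group)
    have hrB : r ∈ borel F := uni_mem_borel hx hx1 (by rw [hri, h1]; exact inv_mem hx)
    have hr1 : r = 1 := by
      by_contra hne
      exact sq_ne_one_of_odd hne (Odd.of_dvd_nat hB (Subgroup.orderOf_dvd_natCard _ hrB)) hr
    subst hr1
    exact hx2 (by simpa using hrx)⟩
  exact Nat.card_of_isEmpty

theorem uni_inverters (h4 : Fintype.card F % 4 = 1) {x : P2} (hx : x ∈ cen (stdUni : P2))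
    (hx1 : x ≠ 1) :
    Nat.card {r : P2 // r * r = 1 ∧ (r * x) * (r * x) = 1} = Fintype.card F := by
  have hodd : Odd (Fintype.card F) := Nat.odd_iff.2 (by omega)
  have h2 : 2 ∣ Nat.card (borel F) := by
    obtain ⟨k, hk⟩ : ∃ k, Fintype.card F = 4 * k + 1 := ⟨Fintype.card F / 4, by omega⟩
    refine ⟨(4 * k + 1) * k, ?_⟩
    have h := two_mul_card_borel hodd
    rw [hk, show 4 * k + 1 - 1 = 4 * k by omega] at h
    linarith
  have : Fact (Nat.Prime 2) := ⟨Nat.prime_two⟩
  obtain ⟨z0, hz0⟩ := exists_prime_orderOf_dvd_card' (G := borel F) 2 h2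
  set z : P2 := (z0 : P2) with hz
  have hzo : orderOf z = 2 := by rw [hz, Subgroup.orderOf_coe, hz0]
  have hz2 : z * z = 1 := by
    have h := pow_orderOf_eq_one z
    rwa [hzo, pow_two] at h
  have hzi : z⁻¹ = z := inv_eq_of_mul_eq_one_left hz2
  have hzU : z ∉ cen (stdUni : P2) := fun h => by
    have h' := Subgroup.orderOf_dvd_natCard _ h
    rw [hzo, card_cen_stdUni] at h'
    obtain ⟨k, hk⟩ := hodd
    omega
  have hinv : ∀ y ∈ cen (stdUni : P2), z * y * z⁻¹ = y⁻¹ := by
    intro y hy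
    have hy' : z * y * z⁻¹ ∈ cen (stdUni : P2) := conj_mem_cen_stdUni z0.2 hy
    have hc : Commute (y * (z * y * z⁻¹)) z := by
      have hcm : y * (z * y * z⁻¹) = z * y * z⁻¹ * y := cen_comm stdUni_ne_one hy hy'
      rw [hzi] at hcm ⊢
      show y * (z * y * z) * z = z * (y * (z * y * z))
      conv_rhs => rw [hcm]
      calc y * (z * y * z) * z = y * z * y * (z * z) := by group
        _ = (z * z) * (y * z * y) := by rw [hz2]; group
        _ = z * (z * y * z * y) := by group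
    by_contra hne
    exact hzU (uni_centralizer (mul_mem hy hy') (fun h => hne (eq_inv_of_mul_eq_one_right h)) hc.symm)
  rw [card_inverters (cen (stdUni : P2)) hx (fun g hg => uni_centralizer hx hx1 hg) hz2 hinv,
    card_cen_stdUni]

end Cfsg.Agent.H15.Ward
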