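import Cfsg.Agent.H15.Ward.PslLSide
import Cfsg.Agent.H29.Ward.Equations

/-!
# The `PSL₂` side for a frame of Ward's setting
-/

set_option autoImplicit false
set_option linter.unusedSectionVars false

namespace Cfsg.Agent.H15.Ward

open Subgroup Cfsg Cfsg.Agent
open Cfsg.Agent.H84.Ward (LSide)
open Cfsg.Agent.H29.Ward (IsPslSide TorusValues signedQ signedH Frame Hyp)

universe u

variable {F : Type} [Field F] [Fintype F]

local notation "P2" => Matrix.ProjectiveSpecialLinearGroup (Fin 2) F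

theorem Tori.isPslSide (T : Tori F) [Fintype P2] :
    IsPslSide T.side (signedQ F) (signedH F) where
  g_aa i := by simp [Tori.side, Tori.gramMat]
  g_ab i i' h := by simp [Tori.side, Tori.gramMat, h]
  g_pp j := by simp [Tori.side, Tori.gramMat]
  g_pq j j' h := by simp [Tori.side, Tori.gramMat, h]
  g_zz w := by simp [Tori.side, Tori.gramMat]
  g_ap i j := rfl
  g_az i w := rfl
  g_pz j w := rfl
  one_a i := rfl
  one_p j := rfl
  one_z w := rfl
  c_zero := rfl
  c_a i hi := by simp [Tori.side, Tori.regVec, hi]; rfl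
  c_p j := rfl
  c_z w := rfl
  S_zero := by
    show _ = Int.sign (Q (F := F)) * _ * _
    rw [T.sign_Q]
    rfl
  S_a i hi := T.side_S_a i hi
  S_p j := T.side_S_p j
  S_z w := rfl

/-- The tori data of a frame. -/
def toriOfFrame {G : Type u} [Group G] {t v : G} (f : Frame G F t v) (h5 : 5 ≤ Fintype.card F)
    (h8 : Fintype.card F % 8 = 3 ∨ Fintype.card F % 8 = 5) : Tori F where
  h5 := h5
  h8 := h8
  v := f.vb
  hv1 := f.vb_ne
  hv := f.vb_sq
  K := f.T
  K_le := f.T_le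
  card_K3 := f.card_three
  card_K5 := f.card_five

theorem toriOfFrame_torusValues {G : Type u} [Group G] {t v : G} (f : Frame G F t v)
    (h5 : 5 ≤ Fintype.card F) (h8 : Fintype.card F % 8 = 3 ∨ Fintype.card F % 8 = 5) [Fintype P2] :
    TorusValues (toriOfFrame f h5 h8).side f.iota
      (fun l => l.1.comp f.ι.symm.toMonoidHom) := by
  set T := toriOfFrame f h5 h8 with hT
  have hne : ∀ k : ↥f.P.K, k ≠ 1 → f.iota k ≠ 1 := fun k hk e => hk ((f.iota_eq_one_iff k).1 e)
  have hcomp : ∀ ψ φ : ↥f.T →* ℂˣ,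
      ψ.comp f.ι.symm.toMonoidHom = φ.comp f.ι.symm.toMonoidHom → ψ = φ := fun ψ φ h =>
    MonoidHom.ext fun x => by simpa using DFunLike.congr_fun h (f.ι x)
  refine ⟨fun i k hk => ?_, fun l k hk => ?_, fun w k hk => ?_, fun l e => ?_, fun l l' e => ?_,
    fun ν hν => ?_⟩
  · show T.prin i (f.iota k) = _
    rw [Tori.prin]
    split_ifs
    · exact T.phi0_K (f.ι.symm k).2 (hne k hk)
    · exact T.phi_K _ (f.ι.symm k).2 (hne k hk)
  · exact T.phiPsi_K l.1 (f.ι.symm k) (fun e => hne k hk (congrArg Subtype.val e))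
  · exact T.phiLam_K w.1 (f.ι.symm k).2 (hne k hk)
  · exact T.ne_one_of_mem_halfK l.2 (hcomp _ 1 (e.trans (MonoidHom.ext fun _ => rfl)))
  · rcases e with e | e
    · exact Subtype.ext (hcomp _ _ e)
    · have h1 : l.1 = (l'.1)⁻¹ := hcomp _ _ (e.trans (MonoidHom.ext fun _ => rfl))
      exact absurd (h1 ▸ l.2) ((T.halfK_spec.2.1 l'.1 (T.ne_one_of_mem_halfK l'.2)).1 l'.2)
  · have hν' : ν.comp f.ι.toMonoidHom ≠ 1 := fun e => hν (MonoidHom.ext fun k => by
      simpa using DFunLike.congr_fun e (f.ι.symm k))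
    by_cases hm : (ν.comp f.ι.toMonoidHom : ↥T.K →* ℂˣ) ∈ T.halfK
    · exact ⟨⟨_, hm⟩, Or.inl (MonoidHom.ext fun k => congrArg ν (f.ι.apply_symm_apply k))⟩
    · have h' : (ν.comp f.ι.toMonoidHom : ↥T.K →* ℂˣ)⁻¹ ∈ T.halfK :=
        not_not.1 fun h' => hm ((T.halfK_spec.2.1 _ hν').2 h')
      exact ⟨⟨_, h'⟩, Or.inr (MonoidHom.ext fun k =>
        congrArg (fun z => (ν z)⁻¹) (f.ι.apply_symm_apply k))⟩

/-- The data required by `ward_equations`. -/
theorem exists_pslSide {G : Type u} [Group G] {t v : G} (f : Frame G F t v)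
    (h5 : 5 ≤ Fintype.card F) (h8 : Fintype.card F % 8 = 3 ∨ Fintype.card F % 8 = 5) [Fintype P2] :
    ∃ (J W : Type) (_ : Fintype J) (_ : Fintype W) (X : LSide P2 (Fin 3 ⊕ J ⊕ W))
      (μ : J → (↥f.P.K →* ℂˣ)),
      IsPslSide X (signedQ F) (signedH F) ∧ TorusValues X f.iota μ :=
  ⟨_, _, _, _, (toriOfFrame f h5 h8).side, _, (toriOfFrame f h5 h8).isPslSide,
    toriOfFrame_torusValues f h5 h8⟩

end Cfsg.Agent.H15.Ward
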