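import Cfsg.Agent.H15.Ward.PslAlpha
import Cfsg.Agent.H33.Binary.PSLTools

/-!
# The three odd subgroups `U`, `K`, `M` of `PSL₂(q)`, `q ≡ 3, 5 (mod 8)`

Orders, coprimality, the signed order `Q` and the number of elements of order two inverting an element.
-/

set_option autoImplicit false
set_option linter.unusedSectionVars false

namespace Cfsg.Agent.H15.Ward

open Subgroup Cfsg.Agent Cfsg.Agent.Linear.Dickson

/-- An involution of `PSL₂(q)` with the odd part of its torus. -/
structure Tori (F : Type*) [Field F] [Fintype F] where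
  h5 : 5 ≤ Fintype.card F
  h8 : Fintype.card F % 8 = 3 ∨ Fintype.card F % 8 = 5
  v : Matrix.ProjectiveSpecialLinearGroup (Fin 2) F
  hv1 : v ≠ 1
  hv : v * v = 1
  K : Subgroup (Matrix.ProjectiveSpecialLinearGroup (Fin 2) F)
  K_le : K ≤ cen v
  card_K3 : Fintype.card F % 8 = 3 → 4 * Nat.card K = Fintype.card F + 1
  card_K5 : Fintype.card F % 8 = 5 → 4 * Nat.card K + 1 = Fintype.card F

/-- The number of elements of order at most two inverting `x`. -/
noncomputable def invCount {G : Type*} [Group G] (x : G) : ℕ :=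
  Nat.card {r : G // r * r = 1 ∧ (r * x) * (r * x) = 1}

theorem invCount_conj {G : Type*} [Group G] (g x : G) : invCount (g * x * g⁻¹) = invCount x := by
  symm
  refine Nat.card_congr (Equiv.subtypeEquiv (MulAut.conj g).toEquiv fun r => ?_)
  show _ ↔ g * r * g⁻¹ * (g * r * g⁻¹) = 1 ∧ g * r * g⁻¹ * (g * x * g⁻¹) * (g * r * g⁻¹ * (g * x * g⁻¹)) = 1
  rw [show g * r * g⁻¹ * (g * r * g⁻¹) = g * (r * r) * g⁻¹ by group,
    show g * r * g⁻¹ * (g * x * g⁻¹) * (g * r * g⁻¹ * (g * x * g⁻¹)) = g * (r * x * (r * x)) * g⁻¹ by group,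
    conj_eq_one_iff, conj_eq_one_iff]

theorem card_class_mul {G : Type*} [Group G] [Finite G] (v : G) :
    Nat.card {r : G // IsConj v r} * Nat.card (centralizer ({v} : Set G)) = Nat.card G := by
  rw [← Subgroup.index_mul_card (centralizer ({v} : Set G)), Subgroup.index]
  congr 1
  have key : ∀ a b : G, (QuotientGroup.mk a : G ⧸ centralizer ({v} : Set G)) = QuotientGroup.mk b ↔
      a * v * a⁻¹ = b * v * b⁻¹ := fun a b => by
    rw [QuotientGroup.eq, mem_centralizer_singleton_iff]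
    constructor
    · intro h
      calc a * v * a⁻¹ = a * (v * (a⁻¹ * b)) * b⁻¹ := by group
        _ = a * (a⁻¹ * b * v) * b⁻¹ := by rw [h]
        _ = b * v * b⁻¹ := by group
    · intro h
      calc a⁻¹ * b * v = a⁻¹ * (b * v * b⁻¹) * b := by group
        _ = a⁻¹ * (a * v * a⁻¹) * b := by rw [h]
        _ = v * (a⁻¹ * b) := by group
  let f : G ⧸ centralizer ({v} : Set G) → {r : G // IsConj v r} := Quotient.lift
    (fun a => ⟨a * v * a⁻¹, isConj_iff.2 ⟨a, rfl⟩⟩)
    (fun a b h => Subtype.ext ((key a b).1 (Quotient.sound h)))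
  refine (Nat.card_congr (Equiv.ofBijective f ⟨?_, ?_⟩)).symm
  · intro a b h
    obtain ⟨a, rfl⟩ := QuotientGroup.mk_surjective a
    obtain ⟨b, rfl⟩ := QuotientGroup.mk_surjective b
    exact (key a b).2 (congrArg Subtype.val h)
  · rintro ⟨r, hr⟩
    obtain ⟨a, rfl⟩ := isConj_iff.1 hr
    exact ⟨QuotientGroup.mk a, rfl⟩

namespace Tori

variable {F : Type*} [Field F] [Fintype F] (T : Tori F)

local notation "P2" => Matrix.ProjectiveSpecialLinearGroup (Fin 2) F

include T in
theorem odd_q : Odd (Fintype.card F) := Nat.odd_iff.2 (by have := T.h8; omega)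

theorem not_isUni_v : ¬ IsUni T.v := fun h => by
  have hd := Subgroup.orderOf_dvd_natCard _ (mem_cen_self T.v)
  rw [card_cen_of_isUni T.hv1 h, orderOf_eq_prime (by rw [pow_two, T.hv]) T.hv1] at hd
  have := T.h8
  omega

theorem card_K_cases : Fintype.card F % 8 = 3 ∧ 4 * Nat.card T.K = Fintype.card F + 1 ∨
    Fintype.card F % 8 = 5 ∧ 4 * Nat.card T.K + 1 = Fintype.card F :=
  T.h8.imp (fun h => ⟨h, T.card_K3 h⟩) fun h => ⟨h, T.card_K5 h⟩

theorem odd_K : Odd (Nat.card T.K) := Nat.odd_iff.2 (by have := T.card_K_cases; omega)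

theorem card_cen_v : Nat.card (cen T.v) = 2 * Nat.card T.K := by
  have h2 : 2 ∣ Nat.card (cen T.v) := by
    have := Subgroup.orderOf_dvd_natCard _ (mem_cen_self T.v)
    rwa [orderOf_eq_prime (by rw [pow_two, T.hv]) T.hv1] at this
  have hK := T.card_K_cases
  have hd : Nat.gcd 2 (Fintype.card F - 1) = 2 := Nat.gcd_eq_left (by omega)
  rcases card_cen_cases T.not_isUni_v with e | e <;> rw [hd] at e <;> omega

include T in
theorem exists_other : ∃ a : P2, ¬ IsUni a ∧
    (Fintype.card F % 8 = 3 → 2 * Nat.card (cen a) + 1 = Fintype.card F) ∧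
    (Fintype.card F % 8 = 5 → 2 * Nat.card (cen a) = Fintype.card F + 1) := by
  have := T.h5
  have hd : Nat.gcd 2 (Fintype.card F - 1) = 2 := Nat.gcd_eq_left (by have := T.h8; omega)
  rcases T.h8 with h | h
  · obtain ⟨a, ha, hc⟩ := exists_split (F := F) (by omega)
    rw [hd] at hc
    exact ⟨a, ha, fun _ => by omega, fun h' => by omega⟩
  · obtain ⟨a, ha, hc⟩ := exists_nonsplit (F := F)
    rw [hd] at hc
    exact ⟨a, ha, fun h' => by omega, fun _ => by omega⟩

/-- A generator of the other torus. -/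
noncomputable def a : P2 := T.exists_other.choose

/-- The other torus. -/
noncomputable def M : Subgroup P2 := cen T.a

theorem not_isUni_a : ¬ IsUni T.a := T.exists_other.choose_spec.1

theorem card_M_cases : Fintype.card F % 8 = 3 ∧ 2 * Nat.card T.M + 1 = Fintype.card F ∨
    Fintype.card F % 8 = 5 ∧ 2 * Nat.card T.M = Fintype.card F + 1 :=
  T.h8.imp (fun h => ⟨h, T.exists_other.choose_spec.2.1 h⟩)
    fun h => ⟨h, T.exists_other.choose_spec.2.2 h⟩

theorem odd_M : Odd (Nat.card T.M) := Nat.odd_iff.2 (by have := T.card_M_cases; omega)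

include T in
theorem odd_uni : Odd (Nat.card (uni F)) := by rw [card_cen_stdUni]; exact T.odd_q

theorem comm_K : ∀ x y : T.K, x * y = y * x := fun x y =>
  Subtype.ext (cen_comm T.hv1 (T.K_le x.2) (T.K_le y.2))

theorem comm_M : ∀ x y : T.M, x * y = y * x := fun x y =>
  Subtype.ext (cen_comm (ne_one_of_not_isUni T.not_isUni_a) x.2 y.2)

theorem two_m : 2 * Nat.card T.M + 1 = 4 * Nat.card T.K - 1 ∧ 2 ≤ 4 * Nat.card T.K ∨
    2 * Nat.card T.M = 4 * Nat.card T.K + 2 := by
  have hK := T.card_K_cases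
  have hM := T.card_M_cases
  omega

theorem coprime_K_M : Nat.Coprime (Nat.card T.K) (Nat.card T.M) := by
  rw [Nat.coprime_iff_gcd_eq_one]
  have h1 := Nat.gcd_dvd_left (Nat.card T.K) (Nat.card T.M)
  have h2 := Nat.gcd_dvd_right (Nat.card T.K) (Nat.card T.M)
  have h4 := h1.mul_left 2
  have hone : Nat.gcd (Nat.card T.K) (Nat.card T.M) ∣ 1 := by
    rcases T.two_m with ⟨h, h'⟩ | h
    · have e : 2 * Nat.card T.K - Nat.card T.M = 1 := by omega
      exact e ▸ Nat.dvd_sub h4 h2
    · have e : Nat.card T.M - 2 * Nat.card T.K = 1 := by omega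
      exact e ▸ Nat.dvd_sub h2 h4
  exact Nat.dvd_one.1 hone

theorem coprime_K_q : Nat.Coprime (Nat.card T.K) (Fintype.card F) := by
  rw [Nat.coprime_iff_gcd_eq_one]
  have h1 := (Nat.gcd_dvd_left (Nat.card T.K) (Fintype.card F)).mul_left 4
  have h2 := Nat.gcd_dvd_right (Nat.card T.K) (Fintype.card F)
  refine Nat.dvd_one.1 ?_
  rcases T.card_K_cases with ⟨-, h⟩ | ⟨-, h⟩
  · have e : 4 * Nat.card T.K - Fintype.card F = 1 := by omega
    exact e ▸ Nat.dvd_sub h1 h2
  · have e : Fintype.card F - 4 * Nat.card T.K = 1 := by omega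
    exact e ▸ Nat.dvd_sub h2 h1

theorem coprime_M_q : Nat.Coprime (Nat.card T.M) (Fintype.card F) := by
  rw [Nat.coprime_iff_gcd_eq_one]
  have h1 := (Nat.gcd_dvd_left (Nat.card T.M) (Fintype.card F)).mul_left 2
  have h2 := Nat.gcd_dvd_right (Nat.card T.M) (Fintype.card F)
  refine Nat.dvd_one.1 ?_
  rcases T.card_M_cases with ⟨-, h⟩ | ⟨-, h⟩
  · have e : Fintype.card F - 2 * Nat.card T.M = 1 := by omega
    exact e ▸ Nat.dvd_sub h2 h1
  · have e : 2 * Nat.card T.M - Fintype.card F = 1 := by omega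
    exact e ▸ Nat.dvd_sub h1 h2

/-- The signed field order, `≡ 3 (mod 8)`. -/
def Q : ℤ := if Fintype.card F % 8 = 3 then (Fintype.card F : ℤ) else -(Fintype.card F : ℤ)

include T in
theorem two_index_uni : 2 * ((uni F).index : ℂ) = (Fintype.card F : ℂ) ^ 2 - 1 := by
  have h := two_mul_card_psl T.odd_q
  rw [← (uni F).card_mul_index, card_cen_stdUni] at h
  obtain ⟨k, hk⟩ : ∃ k, Fintype.card F = k + 1 := ⟨_, (Nat.succ_pred Fintype.card_ne_zero).symm⟩
  rw [hk, Nat.add_sub_cancel] at h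
  have h' : 2 * (uni F).index = k * (k + 2) := by
    refine Nat.eq_of_mul_eq_mul_left (show 0 < k + 1 by omega) ?_
    linarith
  have h'' : (2 : ℂ) * ((uni F).index : ℂ) = (k : ℂ) * ((k : ℂ) + 2) := by exact_mod_cast h'
  rw [h'', hk]; push_cast; ring

include T in
theorem two_card_borel_cast : 2 * (Nat.card (borel F) : ℂ) =
    (Fintype.card F : ℂ) * ((Fintype.card F : ℂ) - 1) := by
  have h := two_mul_card_borel T.odd_q
  obtain ⟨k, hk⟩ : ∃ k, Fintype.card F = k + 1 := ⟨_, (Nat.succ_pred Fintype.card_ne_zero).symm⟩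
  rw [hk, Nat.add_sub_cancel] at h
  have h'' : (2 : ℂ) * (Nat.card (borel F) : ℂ) = ((k : ℂ) + 1) * k := by exact_mod_cast h
  rw [h'', hk]; push_cast; ring

include T in
theorem two_card_cast : 2 * (Nat.card P2 : ℂ) =
    (Fintype.card F : ℂ) * ((Fintype.card F : ℂ) ^ 2 - 1) := by
  rw [← (uni F).card_mul_index, card_cen_stdUni, ← T.two_index_uni]
  push_cast; ring

/-- All orders in terms of `q`, in the two congruence cases. -/
theorem nums :
    (Q (F := F) = (Fintype.card F : ℤ) ∧ 4 * (Nat.card T.K : ℂ) = (Fintype.card F : ℂ) + 1 ∧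
      2 * (Nat.card T.M : ℂ) = (Fintype.card F : ℂ) - 1 ∧
      (T.K.index : ℂ) = 2 * (Fintype.card F : ℂ) * ((Fintype.card F : ℂ) - 1) ∧
      (T.M.index : ℂ) = (Fintype.card F : ℂ) * ((Fintype.card F : ℂ) + 1)) ∨
    (Q (F := F) = -(Fintype.card F : ℤ) ∧ 4 * (Nat.card T.K : ℂ) = (Fintype.card F : ℂ) - 1 ∧
      2 * (Nat.card T.M : ℂ) = (Fintype.card F : ℂ) + 1 ∧
      (T.K.index : ℂ) = 2 * (Fintype.card F : ℂ) * ((Fintype.card F : ℂ) + 1) ∧
      (T.M.index : ℂ) = (Fintype.card F : ℂ) * ((Fintype.card F : ℂ) - 1)) := by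
  have hG := T.two_card_cast
  have hK : (Nat.card T.K : ℂ) * (T.K.index : ℂ) = (Nat.card P2 : ℂ) := by
    exact_mod_cast T.K.card_mul_index
  have hM : (Nat.card T.M : ℂ) * (T.M.index : ℂ) = (Nat.card P2 : ℂ) := by
    exact_mod_cast T.M.card_mul_index
  have hK0 : (Nat.card T.K : ℂ) ≠ 0 := Nat.cast_ne_zero.2 Nat.card_pos.ne'
  have hM0 : (Nat.card T.M : ℂ) ≠ 0 := Nat.cast_ne_zero.2 Nat.card_pos.ne'
  rcases T.h8 with h | h
  · left
    have e1 : (4 : ℂ) * (Nat.card T.K : ℂ) = (Fintype.card F : ℂ) + 1 := by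
      exact_mod_cast T.card_K3 h
    have e2 : 2 * (Nat.card T.M : ℂ) + 1 = (Fintype.card F : ℂ) := by
      exact_mod_cast ((T.card_M_cases).resolve_right fun h' => by omega).2
    refine ⟨if_pos h, e1, by linear_combination e2, mul_left_cancel₀ hK0 ?_, mul_left_cancel₀ hM0 ?_⟩
    · linear_combination hK + (1 / 2 : ℂ) * hG -
        (1 / 2 : ℂ) * (Fintype.card F : ℂ) * ((Fintype.card F : ℂ) - 1) * e1
    · linear_combination hM + (1 / 2 : ℂ) * hG -
        (1 / 2 : ℂ) * (Fintype.card F : ℂ) * ((Fintype.card F : ℂ) + 1) * e2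
  · right
    have e1 : (4 : ℂ) * (Nat.card T.K : ℂ) + 1 = (Fintype.card F : ℂ) := by
      exact_mod_cast T.card_K5 h
    have e2 : 2 * (Nat.card T.M : ℂ) = (Fintype.card F : ℂ) + 1 := by
      exact_mod_cast ((T.card_M_cases).resolve_left fun h' => by omega).2
    refine ⟨if_neg (by omega), by linear_combination e1, e2, mul_left_cancel₀ hK0 ?_,
      mul_left_cancel₀ hM0 ?_⟩
    · linear_combination hK + (1 / 2 : ℂ) * hG -
        (1 / 2 : ℂ) * (Fintype.card F : ℂ) * ((Fintype.card F : ℂ) + 1) * e1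
    · linear_combination hM + (1 / 2 : ℂ) * hG -
        (1 / 2 : ℂ) * (Fintype.card F : ℂ) * ((Fintype.card F : ℂ) - 1) * e2

theorem invCount_K {x : P2} (hx : x ∈ T.K) (hx1 : x ≠ 1) :
    invCount x = 2 * Nat.card T.K := by
  rw [← T.card_cen_v]
  exact tor_inverters T.not_isUni_v (T.K_le hx)
    (sq_ne_one_of_odd hx1 (Odd.of_dvd_nat T.odd_K (Subgroup.orderOf_dvd_natCard _ hx)))

theorem invCount_M {x : P2} (hx : x ∈ T.M) (hx1 : x ≠ 1) : invCount x = Nat.card T.M :=
  tor_inverters T.not_isUni_a hx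
    (sq_ne_one_of_odd hx1 (Odd.of_dvd_nat T.odd_M (Subgroup.orderOf_dvd_natCard _ hx)))

include T in
theorem invCount_uni {x : P2} (hx : x ∈ uni F) (hx1 : x ≠ 1) :
    2 * (invCount x : ℂ) = (Fintype.card F : ℂ) - (Q (F := F) : ℂ) := by
  rw [invCount]
  rcases T.h8 with h | h
  · rw [uni_inverters_zero (by omega) hx hx1, Q, if_pos h]
    simp
  · rw [uni_inverters (by omega) hx hx1, Q, if_neg (by omega)]
    push_cast; ring

theorem card_centralizer_v : Nat.card (centralizer ({T.v} : Set P2)) = 4 * Nat.card T.K := by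
  have hu := T.not_isUni_v
  have e : centralizer ({T.v} : Set P2) = normalizer ((cen T.v : Subgroup P2) : Set P2) := by
    refine le_antisymm (fun g hg => ?_) (fun g hg => ?_)
    · rw [mem_centralizer_singleton_iff] at hg
      refine mem_normalizer_iff.2 fun y => ?_
      have h := mem_cen_conj g T.v y
      rw [hg, mul_inv_cancel_right] at h
      exact h.symm
    · rw [mem_centralizer_singleton_iff]
      rcases normalizer_cases hu (mem_normalizer_iff.1 hg) with h | ⟨-, h⟩
      · exact cen_comm T.hv1 h (mem_cen_self T.v)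
      · have h' := h T.v (mem_cen_self T.v)
        rw [inv_eq_of_mul_eq_one_right T.hv] at h'
        exact mul_inv_eq_iff_eq_mul.1 h'
  rw [e, (torus_normalizer_props hu).1, T.card_cen_v]
  ring

include T in
theorem two_invCount_one : 2 * (invCount (1 : P2) : ℂ) =
    2 + (Q (F := F) : ℂ) * ((Q (F := F) : ℂ) - 1) := by
  have h1 : invCount (1 : P2) = Nat.card {r : P2 // IsConj T.v r} + 1 := by
    classical
    rw [invCount, ← Finite.card_option]
    refine Nat.card_congr (Equiv.trans ?_ (Equiv.optionSubtypeNe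
      (⟨1, by simp⟩ : {r : P2 // r * r = 1 ∧ r * 1 * (r * 1) = 1}))).symm
    refine Equiv.optionCongr ?_
    refine
      { toFun := fun r => ⟨⟨r.1, ?_⟩, ?_⟩
        invFun := fun r => ⟨r.1.1, ?_⟩
        left_inv := fun r => rfl
        right_inv := fun r => rfl }
    · obtain ⟨g, hg⟩ := isConj_iff.1 r.2
      have h2 : r.1 * r.1 = 1 := by
        rw [← hg, show g * T.v * g⁻¹ * (g * T.v * g⁻¹) = g * (T.v * T.v) * g⁻¹ by group, T.hv]
        group
      exact ⟨h2, by rw [mul_one, h2]⟩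
    · intro h
      obtain ⟨g, hg⟩ := isConj_iff.1 r.2
      exact T.hv1 (conj_eq_one_iff.1 (hg.trans (congrArg Subtype.val h)))
    · exact H33.Binary.isConj_invol T.v r.1.1 T.hv1 T.hv (fun h => r.2 (Subtype.ext h)) r.1.2.1
  have h2 := card_class_mul T.v
  rw [T.card_centralizer_v] at h2
  rw [h1, Nat.cast_add, Nat.cast_one]
  have h3 : (Nat.card {r : P2 // IsConj T.v r} : ℂ) * (4 * (Nat.card T.K : ℂ)) = (Nat.card P2 : ℂ) := by
    exact_mod_cast h2
  have hG := T.two_card_cast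
  have hK0 : (4 : ℂ) * (Nat.card T.K : ℂ) ≠ 0 :=
    mul_ne_zero (by norm_num) (Nat.cast_ne_zero.2 Nat.card_pos.ne')
  rcases T.nums with ⟨hQ, e, -⟩ | ⟨hQ, e, -⟩ <;> rw [hQ] <;> push_cast <;>
    refine mul_left_cancel₀ hK0 ?_
  · linear_combination 2 * h3 + hG -
      (Fintype.card F : ℂ) * ((Fintype.card F : ℂ) - 1) * e
  · linear_combination 2 * h3 + hG -
      (Fintype.card F : ℂ) * ((Fintype.card F : ℂ) + 1) * e

end Tori

end Cfsg.Agent.H15.Ward
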